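import Cfsg.Agent.Lib.ChevStructure.RegTorus.Cyclic
import Mathlib.LinearAlgebra.Matrix.Charpoly.Coeff
import Mathlib.RingTheory.Polynomial.Cyclotomic.Expand

/-!
An eigenvalue modulo a prime of an integer matrix of finite order is a root of a cyclotomic divisor of
its characteristic polynomial.
-/

set_option autoImplicit false
set_option linter.unusedSectionVars false

namespace Cfsg.Agent.Lib.E7Sixtyfive46

open Polynomial Cfsg.Agent.Lib.ChevStructure.RegTorus

variable {n : Type*} [Fintype n] [DecidableEq n]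

theorem exists_cyclotomic (M : Matrix n n ℤ) {r e : ℕ} [Fact r.Prime] (he : 0 < e) (hM : M ^ e = 1)
    {E : n → ZMod r} (hE : E ≠ 0) {x : ZMod r}
    (h : Matrix.vecMul E (M.map (Int.cast : ℤ → ZMod r)) = x • E) :
    ∃ i ∈ e.divisors, cyclotomic i ℤ ∣ M.charpoly ∧ aeval x (cyclotomic i ℤ) = 0 := by
  classical
  set S := e.divisors.filter fun i => cyclotomic i ℤ ∣ M.charpoly
  set T := e.divisors.filter fun i => ¬ cyclotomic i ℤ ∣ M.charpoly
  have hprod : (∏ i ∈ S, cyclotomic i ℤ) * (∏ i ∈ T, cyclotomic i ℤ) = X ^ e - 1 := by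
    rw [Finset.prod_filter_mul_prod_filter_not, prod_cyclotomic_eq_X_pow_sub_one he]
  have hcp : IsCoprime ((∏ i ∈ T, cyclotomic i ℤ).map (Int.castRingHom ℚ))
      (M.charpoly.map (Int.castRingHom ℚ)) := by
    rw [Polynomial.map_prod]
    refine IsCoprime.prod_left fun i hi => ?_
    obtain ⟨hi, hnd⟩ := Finset.mem_filter.1 hi
    rw [map_cyclotomic]
    refine (Irreducible.coprime_iff_not_dvd (cyclotomic.irreducible_rat (Nat.pos_of_mem_divisors hi))).2
      fun hd => hnd ?_
    rw [← map_cyclotomic i (Int.castRingHom ℚ)] at hd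
    exact (Polynomial.map_dvd_map _ Int.cast_injective (cyclotomic.monic i ℤ)).1 hd
  obtain ⟨a, b, hab⟩ := hcp
  have h1 : aeval (toQ M) a * toQ (aeval M (∏ i ∈ T, cyclotomic i ℤ)) = 1 := by
    have h2 := congrArg (aeval (toQ M)) hab
    rw [map_add, map_mul, map_mul, aeval_toQ, aeval_toQ, Matrix.aeval_self_charpoly, toQ_zero, mul_zero,
      add_zero, map_one] at h2
    exact h2
  have hS : aeval M (∏ i ∈ S, cyclotomic i ℤ) = 0 := by
    refine toQ_injective ?_
    rw [toQ_zero]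
    have h3 : toQ (aeval M (∏ i ∈ T, cyclotomic i ℤ)) * toQ (aeval M (∏ i ∈ S, cyclotomic i ℤ)) = 0 := by
      rw [← map_mul, ← map_mul, mul_comm, hprod, map_sub, map_pow, aeval_X, map_one, hM, sub_self,
        map_zero]
    calc toQ (aeval M (∏ i ∈ S, cyclotomic i ℤ))
        = aeval (toQ M) a * toQ (aeval M (∏ i ∈ T, cyclotomic i ℤ)) * toQ (aeval M (∏ i ∈ S, cyclotomic i ℤ)) := by
          rw [h1, one_mul]
      _ = 0 := by rw [mul_assoc, h3, mul_zero]
  have h4 := vecMul_aeval h (∏ i ∈ S, cyclotomic i ℤ)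
  rw [hS, Matrix.map_zero _ Int.cast_zero, Matrix.vecMul_zero, eq_comm] at h4
  have h5 := (smul_eq_zero.1 h4).resolve_right hE
  rw [map_prod, Finset.prod_eq_zero_iff] at h5
  obtain ⟨i, hi, h6⟩ := h5
  obtain ⟨hi, hd⟩ := Finset.mem_filter.1 hi
  exact ⟨i, hi, hd, h6⟩

/-- The cyclotomic polynomial of the order of the eigenvalue divides the characteristic polynomial when
the dimension is small against the prime. -/
theorem cyclotomic_dvd (M : Matrix n n ℤ) {r e d : ℕ} [hr : Fact r.Prime] (he : 0 < e) (hM : M ^ e = 1)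
    {E : n → ZMod r} (hE : E ≠ 0) {x : ZMod r}
    (h : Matrix.vecMul E (M.map (Int.cast : ℤ → ZMod r)) = x • E) (hd : orderOf x = d) (hrd : ¬ r ∣ d)
    (hn : Fintype.card n < (r - 1) * d.totient) : cyclotomic d ℤ ∣ M.charpoly := by
  obtain ⟨i, hi, hdvd, h0⟩ := exists_cyclotomic M he hM hE h
  obtain ⟨k, m, hm, rfl⟩ := Nat.exists_eq_pow_mul_and_not_dvd (Nat.pos_of_mem_divisors hi).ne' r hr.out.ne_one
  haveI : NeZero (m : ZMod r) := ⟨fun h => hm ((ZMod.natCast_eq_zero_iff m r).1 h)⟩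
  rw [aeval_def, algebraMap_int_eq, ← eval_map, map_cyclotomic] at h0
  have hprim := isRoot_cyclotomic_prime_pow_mul_iff_of_charP.1 h0
  obtain rfl : m = d := hprim.eq_orderOf.trans hd
  rcases Nat.eq_zero_or_pos k with rfl | hk
  · simpa using hdvd
  exfalso
  have hdeg := natDegree_le_of_dvd hdvd (Matrix.charpoly_monic M).ne_zero
  rw [natDegree_cyclotomic, Matrix.charpoly_natDegree_eq_dim,
    Nat.totient_mul (Nat.Coprime.pow_left k (hr.out.coprime_iff_not_dvd.2 hm)), Nat.totient_prime_pow hr.out hk,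
    mul_assoc] at hdeg
  have h1 : 1 ≤ r ^ (k - 1) := Nat.one_le_pow _ _ hr.out.pos
  have := Nat.le_mul_of_pos_left ((r - 1) * m.totient) (show 0 < r ^ (k - 1) by omega)
  omega

end Cfsg.Agent.Lib.E7Sixtyfive46
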