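import Cfsg.Agent.Lib.ChevStructure.RegTorus.Gram
import Cfsg.Agent.Lib.ChevStructure.Order.CertE7

/-!
The root lattice of type E₇: vectors of norm 2 are roots, and the stabiliser of the highest root acts on
its orthogonal complement by signed permutations with an even number of signs.
-/

set_option autoImplicit false
set_option maxRecDepth 100000
set_option linter.unusedSectionVars false

namespace Cfsg.Agent.Lib.E7Sixtyfive46

open Cfsg.Lie Cfsg.Agent.Lib.ChevStructure Cfsg.Agent.Lib.ChevStructure.RegTorus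
open scoped Matrix

/-- the index type -/
abbrev I7 := Fin chevE7.rank

/-- the core -/
noncomputable abbrev C : Core chevE7 := Cert.E7.core

/-- the entries of the Cartan matrix -/
def Gf (i j : I7) : ℤ :=
  ([[2, 0, -1, 0, 0, 0, 0], [0, 2, 0, -1, 0, 0, 0], [-1, 0, 2, -1, 0, 0, 0], [0, -1, -1, 2, -1, 0, 0],
    [0, 0, 0, -1, 2, -1, 0], [0, 0, 0, 0, -1, 2, -1], [0, 0, 0, 0, 0, -1, 2]].getD i.val []).getD j.val 0

/-- the Cartan matrix -/
def G : Matrix I7 I7 ℤ := Matrix.of Gf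

/-- the Cartan integers -/
def aE (j k : I7) : ℤ := Data.E7.fast.a j (Data.E7.fast.p k)

/-- coordinates of a root -/
def vv (r : ℕ) : I7 → ℤ := fun m => Data.E7.fast.v r m

theorem v_eq (x : Rt chevE7) : C.v x = vv x.val := rfl

theorem p_eq (i : I7) : (C.p i).val = Data.E7.fast.p i := Cert.E7.certified.p_val i

theorem aE_eq (j k : I7) : A chevE7 j (C.p k) = aE j k := by
  rw [Cert.E7.certified.A_val, p_eq]; rfl

theorem aE_Gf : ∀ j k : I7, aE j k = Gf j k := by decide +kernel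

theorem aE_G (j k : I7) : aE j k = G j k := aE_Gf j k

theorem refl_inv : ∀ i : I7, (srefMat aE i)ᵀ * G * srefMat aE i = G := by decide +kernel

theorem G_symm : Gᵀ = G := by decide +kernel

theorem inv (σ : Equiv.Perm (Rt chevE7)) (hσ : σ ∈ C.WG) : (mat C σ)ᵀ * G * mat C σ = G :=
  mat_invariant C G aE_eq refl_inv hσ

theorem bil_mat {σ : Equiv.Perm (Rt chevE7)} (hσ : σ ∈ C.WG) (x y : I7 → ℤ) :
    bil G (mat C σ *ᵥ x) (mat C σ *ᵥ y) = bil G x y := bil_mulVec G (inv σ hσ) x y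

theorem mat_pprod : ∀ L : List I7, mat C (C.pprod L) = (L.map (srefMat aE)).prod
  | [] => by rw [C.pprod_nil, mat_one]; rfl
  | i :: L => by
    rw [C.pprod_cons, mat_mul C (Subgroup.subset_closure ⟨i, rfl⟩), mat_sref,
      funext fun j => funext (aE_eq j), mat_pprod L, List.map_cons, List.prod_cons]

theorem bil_single (i : I7) (x : I7 → ℤ) : bil G (Pi.single i 1) x = (G *ᵥ x) i := by
  simp [bil]

theorem sref_mulVec (i : I7) (x : I7 → ℤ) :
    mat C (C.sref i) *ᵥ x = x - (G *ᵥ x) i • Pi.single i 1 := by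
  rw [mat_sref, funext fun j => funext (aE_eq j)]
  funext m
  simp only [Matrix.mulVec, dotProduct, srefMat, Matrix.of_apply, aE_G, Pi.sub_apply, Pi.smul_apply,
    smul_eq_mul, sub_mul, Finset.sum_sub_distrib]
  by_cases h : m = i
  · subst h
    simp
  · simp [h]

/-- the indices -/
def ix (k : ℕ) (h : k < chevE7.rank := by decide) : I7 := ⟨k, h⟩

theorem sum7 {M : Type*} [AddCommMonoid M] (f : I7 → M) :
    ∑ i, f i = f (ix 0) + f (ix 1) + f (ix 2) + f (ix 3) + f (ix 4) + f (ix 5) + f (ix 6) :=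
  Fin.sum_univ_seven f

theorem cases7 (i : I7) : i = ix 0 ∨ i = ix 1 ∨ i = ix 2 ∨ i = ix 3 ∨ i = ix 4 ∨ i = ix 5 ∨ i = ix 6 := by
  revert i
  decide

theorem bil_self (x : I7 → ℤ) : bil G x x = 2 * (x (ix 0) ^ 2 + x (ix 1) ^ 2 + x (ix 2) ^ 2 + x (ix 3) ^ 2 +
    x (ix 4) ^ 2 + x (ix 5) ^ 2 + x (ix 6) ^ 2 - x (ix 0) * x (ix 2) - x (ix 2) * x (ix 3) -
    x (ix 1) * x (ix 3) - x (ix 3) * x (ix 4) - x (ix 4) * x (ix 5) - x (ix 5) * x (ix 6)) := by
  simp [bil, dotProduct, Matrix.mulVec, sum7, G, Gf, ix]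
  ring

theorem bil_self_nonneg (x : I7 → ℤ) : 0 ≤ bil G x x ∧ (bil G x x = 0 → x = 0) := by
  have key : 60 * bil G x x = 30 * (2 * x (ix 0) - x (ix 2)) ^ 2 + 30 * (2 * x (ix 1) - x (ix 3)) ^ 2 +
      10 * (3 * x (ix 2) - 2 * x (ix 3)) ^ 2 + 2 * (5 * x (ix 3) - 6 * x (ix 4)) ^ 2 +
      3 * (4 * x (ix 4) - 5 * x (ix 5)) ^ 2 + 5 * (3 * x (ix 5) - 4 * x (ix 6)) ^ 2 + 40 * x (ix 6) ^ 2 := by
    rw [bil_self]
    ring
  refine ⟨by nlinarith [key], fun h => ?_⟩
  rw [h, mul_zero] at key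
  have a0 := sq_nonneg (2 * x (ix 0) - x (ix 2))
  have a1 := sq_nonneg (2 * x (ix 1) - x (ix 3))
  have a2 := sq_nonneg (3 * x (ix 2) - 2 * x (ix 3))
  have a3 := sq_nonneg (5 * x (ix 3) - 6 * x (ix 4))
  have a4 := sq_nonneg (4 * x (ix 4) - 5 * x (ix 5))
  have a5 := sq_nonneg (3 * x (ix 5) - 4 * x (ix 6))
  have a6 := sq_nonneg (x (ix 6))
  have z6 : x (ix 6) = 0 := sq_eq_zero_iff.1 (by linarith)
  have z5 : 3 * x (ix 5) - 4 * x (ix 6) = 0 := sq_eq_zero_iff.1 (by linarith)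
  have z4 : 4 * x (ix 4) - 5 * x (ix 5) = 0 := sq_eq_zero_iff.1 (by linarith)
  have z3 : 5 * x (ix 3) - 6 * x (ix 4) = 0 := sq_eq_zero_iff.1 (by linarith)
  have z2 : 3 * x (ix 2) - 2 * x (ix 3) = 0 := sq_eq_zero_iff.1 (by linarith)
  have z1 : 2 * x (ix 1) - x (ix 3) = 0 := sq_eq_zero_iff.1 (by linarith)
  have z0 : 2 * x (ix 0) - x (ix 2) = 0 := sq_eq_zero_iff.1 (by linarith)
  funext i
  rcases cases7 i with rfl | rfl | rfl | rfl | rfl | rfl | rfl <;> simp only [Pi.zero_apply] <;> omega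

theorem Gf_offdiag : ∀ i j : I7, i ≠ j → Gf i j ≤ 0 := by decide +kernel

theorem G_offdiag (i j : I7) (h : i ≠ j) : G i j ≤ 0 := Gf_offdiag i j h

theorem Gf_diag : ∀ i : I7, Gf i i = 2 := by decide +kernel

theorem G_diag (i : I7) : G i i = 2 := Gf_diag i

theorem bil_add_self (x y : I7 → ℤ) : bil G (x - y) (x - y) = bil G x x - 2 * bil G x y + bil G y y := by
  have h := bil_comm G G_symm x y
  simp only [bil, Matrix.mulVec_sub, dotProduct_sub, sub_dotProduct] at h ⊢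
  rw [← h]
  ring

theorem bil_disjoint {x y : I7 → ℤ} (hx : ∀ i, 0 ≤ x i) (hy : ∀ i, 0 ≤ y i) (h : ∀ i, x i = 0 ∨ y i = 0) :
    bil G x y ≤ 0 := by
  simp only [bil, dotProduct, Matrix.mulVec, Finset.mul_sum]
  refine Finset.sum_nonpos fun i _ => Finset.sum_nonpos fun j _ => ?_
  by_cases hij : i = j
  · subst hij
    rcases h i with h | h <;> simp [h]
  · have := mul_nonneg (hx i) (hy j)
    have := G_offdiag i j hij
    rw [← mul_assoc, mul_comm (x i), mul_assoc]
    exact mul_nonpos_of_nonpos_of_nonneg this ‹0 ≤ x i * y j›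

theorem exists_nonneg_root {a : I7 → ℤ} (ha : bil G a a = 2) (hpos : ∀ i, 0 ≤ a i) :
    ∃ σ ∈ C.WG, ∃ i, mat C σ *ᵥ a = Pi.single i 1 := by
  suffices key : ∀ (k : ℕ) (a : I7 → ℤ), (∑ i, a i).toNat = k → bil G a a = 2 → (∀ i, 0 ≤ a i) →
      ∃ σ ∈ C.WG, ∃ i, mat C σ *ᵥ a = Pi.single i 1 from key _ a rfl ha hpos
  intro k
  induction k using Nat.strong_induction_on with
  | _ k ih =>
    intro a hk ha hpos
    obtain ⟨i, hi⟩ : ∃ i, 0 < a i * (G *ᵥ a) i := by
      by_contra hc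
      push Not at hc
      have := Finset.sum_nonpos fun i (_ : i ∈ Finset.univ) => hc i
      have e : bil G a a = ∑ i, a i * (G *ᵥ a) i := rfl
      omega
    have hai : 0 < a i := lt_of_le_of_ne (hpos i) fun h => by rw [← h, zero_mul] at hi; omega
    have hGi : 0 < (G *ᵥ a) i := pos_of_mul_pos_right hi hai.le
    by_cases hs : ∀ j, j ≠ i → a j = 0
    · have e : a = Pi.single i (a i) := by
        funext j
        by_cases hj : j = i
        · subst hj; simp
        · simp [hs j hj, hj]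
      have hn : bil G a a = a i * a i * 2 := by
        conv_lhs => rw [e]
        simp [bil, Matrix.mulVec_single, G_diag]
        ring
      have h1 : a i = 1 := by
        have : a i * a i = 1 := by omega
        rcases mul_self_eq_one_iff.1 this with h | h <;> omega
      exact ⟨1, one_mem _, i, by rw [mat_one, Matrix.one_mulVec, e, h1]⟩
    push Not at hs
    obtain ⟨j, hji, haj⟩ := hs
    set b := mat C (C.sref i) *ᵥ a with hb
    have hsW : C.sref i ∈ C.WG := Subgroup.subset_closure ⟨i, rfl⟩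
    have hbn : bil G b b = 2 := by rw [hb, bil_mat hsW, ha]
    have hbv : ∀ m, m ≠ i → b m = a m := fun m hm => by rw [hb, sref_mulVec]; simp [hm]
    have hbi : 0 ≤ b i := by
      by_contra hneg
      push Not at hneg
      let p : I7 → ℤ := fun m => if m = i then 0 else b m
      let q : I7 → ℤ := Pi.single i (- b i)
      have hp : ∀ m, 0 ≤ p m := fun m => by
        by_cases hm : m = i <;> simp [p, hm]
        rw [hbv m hm]; exact hpos m
      have hq : ∀ m, 0 ≤ q m := fun m => by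
        by_cases hm : m = i
        · subst hm; simp [q]; omega
        · simp [q, hm]
      have hbpq : b = p - q := funext fun m => by
        by_cases hm : m = i
        · subst hm; simp [p, q]
        · simp [p, q, hm]
      have h1 := bil_disjoint hp hq fun m => by
        by_cases hm : m = i
        · exact Or.inl (by simp [p, hm])
        · exact Or.inr (by simp [q, hm])
      have h2 : p ≠ 0 := fun h => by
        have := congrFun h j
        simp [p, hji, hbv j hji] at this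
        exact haj this
      have h3 : q ≠ 0 := fun h => by
        have := congrFun h i
        simp [q] at this
        omega
      rw [hbpq, bil_add_self] at hbn
      have h4 := bil_self p
      have h5 := bil_self q
      have h6 : 0 < bil G p p := lt_of_le_of_ne (bil_self_nonneg p).1 fun h => h2 ((bil_self_nonneg p).2 h.symm)
      have h7 : 0 < bil G q q := lt_of_le_of_ne (bil_self_nonneg q).1 fun h => h3 ((bil_self_nonneg q).2 h.symm)
      omega
    have hbpos : ∀ m, 0 ≤ b m := fun m => by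
      by_cases hm : m = i
      · subst hm; exact hbi
      · rw [hbv m hm]; exact hpos m
    have hsum : ∑ m, b m < ∑ m, a m := by
      rw [hb, sref_mulVec]
      simp only [Pi.sub_apply, Pi.smul_apply, smul_eq_mul, Finset.sum_sub_distrib, ← Finset.mul_sum,
        Finset.sum_pi_single', Finset.mem_univ, if_true, mul_one]
      exact sub_lt_self _ hGi
    have h0 : 0 ≤ ∑ m, b m := Finset.sum_nonneg fun m _ => hbpos m
    obtain ⟨σ, hσ, l, hl⟩ := ih _ (hk ▸ (Int.toNat_lt_toNat (lt_of_le_of_lt h0 hsum)).2 hsum) b rfl hbn hbpos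
    exact ⟨σ * C.sref i, mul_mem hσ hsW, l, by rw [mat_mul C hσ, ← Matrix.mulVec_mulVec, ← hb, hl]⟩

/-- the highest root -/
def θv : I7 → ℤ := fun i => [2, 2, 3, 4, 3, 2, 1].getD i.val 0

/-- words sending the fundamental roots to the highest one -/
def words : List (List I7) :=
  [[ix 0, ix 2, ix 3, ix 4, ix 5, ix 6, ix 1, ix 3, ix 4, ix 5, ix 2, ix 3, ix 4, ix 1, ix 3, ix 2],
   [ix 0, ix 2, ix 3, ix 4, ix 5, ix 6, ix 1, ix 3, ix 4, ix 5, ix 2, ix 3, ix 4, ix 0, ix 2, ix 3],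
   [ix 0, ix 2, ix 3, ix 4, ix 5, ix 6, ix 1, ix 3, ix 4, ix 5, ix 2, ix 3, ix 4, ix 1, ix 3, ix 0],
   [ix 0, ix 2, ix 3, ix 4, ix 5, ix 6, ix 1, ix 3, ix 4, ix 5, ix 2, ix 3, ix 4, ix 0, ix 2, ix 1],
   [ix 0, ix 2, ix 3, ix 4, ix 5, ix 6, ix 1, ix 3, ix 4, ix 5, ix 2, ix 3, ix 0, ix 2, ix 1, ix 3],
   [ix 0, ix 2, ix 3, ix 4, ix 5, ix 6, ix 1, ix 3, ix 4, ix 2, ix 3, ix 0, ix 2, ix 1, ix 3, ix 4],
   [ix 0, ix 2, ix 3, ix 4, ix 5, ix 1, ix 3, ix 4, ix 2, ix 3, ix 0, ix 2, ix 1, ix 3, ix 4, ix 5]]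

theorem words_spec : ∀ i : I7, ((words.getD i.val []).map (srefMat aE)).prod *ᵥ Pi.single i 1 = θv := by
  decide +kernel

/-- A vector of norm 2 is carried to the highest root or its negative. -/
theorem exists_to_theta {a : I7 → ℤ} (ha : bil G a a = 2) :
    ∃ τ ∈ C.WG, mat C τ *ᵥ a = θv ∨ mat C τ *ᵥ a = -θv := by
  have pos : ∀ b : I7 → ℤ, bil G b b = 2 → (∀ i, 0 ≤ b i) → ∃ τ ∈ C.WG, mat C τ *ᵥ b = θv := by
    intro b hb hpos
    obtain ⟨σ, hσ, i, hi⟩ := exists_nonneg_root hb hpos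
    refine ⟨C.pprod (words.getD i.val []) * σ, mul_mem (C.pprod_mem_WG _) hσ, ?_⟩
    rw [mat_mul C (C.pprod_mem_WG _), ← Matrix.mulVec_mulVec, hi, mat_pprod, words_spec]
  let p : I7 → ℤ := fun i => max (a i) 0
  let m : I7 → ℤ := fun i => max (- a i) 0
  have hpm : a = p - m := funext fun i => by simp only [p, m, Pi.sub_apply]; omega
  have hp : ∀ i, 0 ≤ p i := fun i => le_max_right _ _
  have hm : ∀ i, 0 ≤ m i := fun i => le_max_right _ _
  by_cases hp0 : p = 0
  · have hna : bil G (-a) (-a) = 2 := by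
      rw [← ha]; simp [bil, Matrix.mulVec_neg]
    obtain ⟨τ, hτ, h⟩ := pos (-a) hna fun i => by
      have := congrFun hp0 i
      simp only [p, Pi.zero_apply] at this
      simp only [Pi.neg_apply]
      omega
    exact ⟨τ, hτ, Or.inr (by rw [Matrix.mulVec_neg] at h; rw [← h, neg_neg])⟩
  by_cases hm0 : m = 0
  · obtain ⟨τ, hτ, h⟩ := pos a ha fun i => by
      have := congrFun hm0 i
      simp only [m, Pi.zero_apply] at this
      omega
    exact ⟨τ, hτ, Or.inl h⟩
  exfalso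
  have h1 := bil_disjoint hp hm fun i => by
    simp only [p, m]
    omega
  have h6 : 0 < bil G p p := lt_of_le_of_ne (bil_self_nonneg p).1 fun h => hp0 ((bil_self_nonneg p).2 h.symm)
  have h7 : 0 < bil G m m := lt_of_le_of_ne (bil_self_nonneg m).1 fun h => hm0 ((bil_self_nonneg m).2 h.symm)
  have h4 := bil_self p
  have h5 := bil_self m
  rw [hpm, bil_add_self] at ha
  omega

theorem theta_pos : ∀ y : Rt chevE7, (chevE7.nroots ≤ 2 * y.val → 0 ≤ bil G θv (vv y.val)) ∧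
    (2 * y.val < chevE7.nroots → bil G θv (vv y.val) ≤ 0) := by
  unfold Rt; decide +kernel

theorem theta_simple : G *ᵥ θv = Pi.single (ix 0) 1 := by decide +kernel

/-- The stabiliser of the highest root is generated by the reflections fixing it. -/
theorem stab_theta {σ : Equiv.Perm (Rt chevE7)} (hσ : σ ∈ C.WG) (hθ : mat C σ *ᵥ θv = θv) :
    ∃ L : List I7, (∀ i ∈ L, i ≠ ix 0) ∧ C.pprod L = σ := by
  suffices key : ∀ (k : ℕ) (σ : Equiv.Perm (Rt chevE7)), C.len σ = k → σ ∈ C.WG → mat C σ *ᵥ θv = θv →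
      ∃ L : List I7, (∀ i ∈ L, i ≠ ix 0) ∧ C.pprod L = σ from key _ σ rfl hσ hθ
  intro k
  induction k using Nat.strong_induction_on with
  | _ k ih =>
    intro σ hk hσ hθ
    by_cases h1 : σ = 1
    · exact ⟨[], by simp, by rw [h1]; rfl⟩
    obtain ⟨L, rfl⟩ := C.mem_WG_iff.1 hσ
    obtain ⟨i, hi⟩ := C.exists_descent h1
    have hi0 : i ≠ ix 0 := by
      rintro rfl
      have h2 := (theta_pos (C.pprod L (C.p (ix 0)))).2 hi
      rw [← v_eq, ← mat_mulVec C hσ] at h2
      conv at h2 => lhs; arg 2; rw [← hθ]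
      rw [bil_mat hσ, bil_comm G G_symm, C.v_p, bil_single, theta_simple] at h2
      simp at h2
    have hθi : mat C (C.sref i) *ᵥ θv = θv := by
      rw [sref_mulVec, theta_simple]
      simp [hi0]
    have hsW : C.sref i ∈ C.WG := Subgroup.subset_closure ⟨i, rfl⟩
    have hpos : (C.pprod L * C.sref i) (C.p i) ∈ C.Pos := by
      rw [Equiv.Perm.mul_apply, C.sref_apply, C.w_p, C.pprod_rev]
      exact C.rev_pos hi
    have hlen := C.len_mul_sref_pos (σ := C.pprod L * C.sref i)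
      (fun r => by rw [← C.pprod_concat]; exact C.pprod_rev _ r) hpos
    rw [mul_assoc, C.sref_mul_self, mul_one] at hlen
    obtain ⟨M, hM, hMe⟩ := ih (C.len (C.pprod L * C.sref i)) (by omega) _ rfl (mul_mem hσ hsW) (by
      rw [mat_mul C hσ, ← Matrix.mulVec_mulVec, hθi, hθ])
    refine ⟨M ++ [i], fun j hj => ?_, by rw [C.pprod_concat, hMe, mul_assoc, C.sref_mul_self, mul_one]⟩
    rcases List.mem_append.1 hj with hj | hj
    · exact hM j hj
    · rw [List.mem_singleton.1 hj]; exact hi0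

/-- twice the orthonormal basis of the complement of the highest root, through the form -/
def P0 : Matrix (Fin 6) I7 ℤ :=
  Matrix.of fun i k => ([[-1, 0, 0, 0, 0, 0, 2], [-1, 0, 0, 0, 0, 2, -2], [-1, 0, 0, 0, 2, -2, 0],
    [-1, 0, 0, 2, -2, 0, 0], [-1, 2, 2, -2, 0, 0, 0], [1, 2, -2, 0, 0, 0, 0]].getD i.val []).getD k.val 0

/-- twice the orthonormal basis of the complement of the highest root -/
def R0 : Matrix I7 (Fin 6) ℤ :=
  Matrix.of fun k i => ([[0, 1, 1, 2, 2, 2, 2], [0, 1, 1, 2, 2, 2, 0], [0, 1, 1, 2, 2, 0, 0],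
    [0, 1, 1, 2, 0, 0, 0], [0, 1, 1, 0, 0, 0, 0], [0, 1, -1, 0, 0, 0, 0]].getD i.val []).getD k.val 0

theorem P0_R0 : P0 * R0 = (4 : ℤ) • 1 := by decide +kernel

theorem R0_P0 : R0 * P0 + (2 : ℤ) • Matrix.vecMulVec θv (G *ᵥ θv) = (4 : ℤ) • 1 := by decide +kernel

/-- a signed permutation matrix -/
def sgn (σ : Equiv.Perm (Fin 6)) (ε : Fin 6 → ℤ) : Matrix (Fin 6) (Fin 6) ℤ :=
  Matrix.of fun i j => if i = σ j then ε j else 0

theorem sgn_mul (σ τ : Equiv.Perm (Fin 6)) (ε δ : Fin 6 → ℤ) :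
    sgn σ ε * sgn τ δ = sgn (σ * τ) fun j => ε (τ j) * δ j := by
  ext i j
  by_cases h : i = σ (τ j) <;> simp [sgn, Matrix.mul_apply, h]

/-- an even signed permutation intertwining a matrix -/
def Good (m : Matrix I7 I7 ℤ) : Prop :=
  ∃ σ ε, (∏ j, ε j = (1 : ℤ)) ∧ P0 * m = sgn σ ε * P0

/-- the signed permutations of the fundamental reflections -/
def gens : List (Equiv.Perm (Fin 6) × List ℤ) :=
  [(1, []), (Equiv.swap 4 5, [1, 1, 1, 1, -1, -1]), (Equiv.swap 4 5, [1, 1, 1, 1, 1, 1]),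
    (Equiv.swap 3 4, [1, 1, 1, 1, 1, 1]), (Equiv.swap 2 3, [1, 1, 1, 1, 1, 1]),
    (Equiv.swap 1 2, [1, 1, 1, 1, 1, 1]), (Equiv.swap 0 1, [1, 1, 1, 1, 1, 1])]

theorem gens_spec : ∀ i : I7, i ≠ ix 0 →
    (∏ j : Fin 6, ((gens.getD i.val (1, [])).2).getD j.val 0) = (1 : ℤ) ∧
    P0 * srefMat aE i = sgn (gens.getD i.val (1, [])).1 (fun j => ((gens.getD i.val (1, [])).2).getD j.val 0) * P0 := by
  decide +kernel

theorem good_prod : ∀ L : List I7, (∀ i ∈ L, i ≠ ix 0) → Good ((L.map (srefMat aE)).prod)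
  | [], _ => ⟨1, 1, by simp, by
      rw [List.map_nil, List.prod_nil, Matrix.mul_one,
        show sgn 1 1 = 1 from Matrix.ext fun i j => by by_cases h : i = j <;> simp [sgn, Matrix.one_apply, h], Matrix.one_mul]⟩
  | i :: L, h => by
    obtain ⟨σ, ε, hε, he⟩ := good_prod L fun j hj => h j (List.mem_cons_of_mem _ hj)
    obtain ⟨hδ, hd⟩ := gens_spec i (h i List.mem_cons_self)
    set g := gens.getD i.val (1, [])
    refine ⟨g.1 * σ, fun j => g.2.getD (σ j).val 0 * ε j, ?_, ?_⟩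
    · rw [Finset.prod_mul_distrib, hε, mul_one, Equiv.prod_comp σ fun j => g.2.getD j.val 0, hδ]
    · rw [List.map_cons, List.prod_cons, ← Matrix.mul_assoc, hd, Matrix.mul_assoc, he, ← Matrix.mul_assoc,
        sgn_mul]

theorem good_of_stab {σ : Equiv.Perm (Rt chevE7)} (hσ : σ ∈ C.WG) (hθ : mat C σ *ᵥ θv = θv) :
    Good (mat C σ) := by
  obtain ⟨L, hL, rfl⟩ := stab_theta hσ hθ
  rw [mat_pprod]
  exact good_prod L hL

theorem two_pow : ∀ d : Fin 6, d.val ≠ 0 → (1 : ZMod 13) * 2 ^ d.val ≠ 1 ∧ -1 * (2 : ZMod 13) ^ d.val ≠ 1 := by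
  decide

theorem small_ne : (1 : ZMod 13) ≠ 0 ∧ (-1 : ZMod 13) ≠ 0 ∧ (2 : ZMod 13) ≠ 0 ∧ (2 : ZMod 13) ^ 6 ≠ 1 := by decide

/-- A signed permutation with an eigenvalue 2 modulo 13 has an odd number of signs. -/
theorem sgn_eigen {σ : Equiv.Perm (Fin 6)} {ε : Fin 6 → ℤ} (hε : ∏ j, ε j = 1) {y : Fin 6 → ZMod 13}
    (h : y ᵥ* (sgn σ ε).map (Int.cast : ℤ → ZMod 13) = (2 : ZMod 13) • y) : y = 0 := by
  haveI : Fact (Nat.Prime 13) := ⟨by norm_num⟩
  have hstep : ∀ j, y (σ j) * (ε j : ZMod 13) = 2 * y j := fun j => by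
    have h1 := congrFun h j
    simpa [sgn, Matrix.vecMul, dotProduct, apply_ite (Int.cast : ℤ → ZMod 13)] using h1
  have hunit : ∀ j, ε j = 1 ∨ ε j = -1 := fun j => by
    have hd : ε j ∣ 1 := hε ▸ Finset.dvd_prod_of_mem ε (Finset.mem_univ j)
    exact Int.isUnit_iff.1 (isUnit_of_dvd_one hd)
  have hpm : ∀ j, ∀ k : ℕ, ∃ u : ZMod 13, (u = 1 ∨ u = -1) ∧ y ((σ ^ k) j) = u * 2 ^ k * y j := by
    intro j k
    induction k with
    | zero => exact ⟨1, Or.inl rfl, by simp⟩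
    | succ k ih =>
      obtain ⟨u, hu, e⟩ := ih
      have h1 := hstep ((σ ^ k) j)
      rw [e] at h1
      rw [pow_succ', Equiv.Perm.mul_apply]
      rcases hunit ((σ ^ k) j) with hs | hs <;> rw [hs] at h1 <;> push_cast at h1
      · exact ⟨u, hu, by linear_combination h1⟩
      · refine ⟨-u, ?_, by linear_combination -h1⟩
        rcases hu with rfl | rfl
        · exact Or.inr rfl
        · exact Or.inl (neg_neg 1)
  by_contra hy
  obtain ⟨j0, hj0⟩ := Function.ne_iff.1 hy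
  have hinj : Function.Injective fun k : Fin 6 => (σ ^ k.val) j0 := by
    suffices hh : ∀ a b : Fin 6, a ≤ b → (σ ^ a.val) j0 = (σ ^ b.val) j0 → a = b by
      intro a b hab
      rcases le_total a b with hl | hl
      · exact hh a b hl hab
      · exact (hh b a hl hab.symm).symm
    intro a b hl hab
    by_contra hne
    have hlt : a.val < b.val := lt_of_le_of_ne hl fun h => hne (Fin.ext h)
    obtain ⟨d, hd⟩ : ∃ d, b.val = a.val + d := ⟨b.val - a.val, by omega⟩
    rw [hd, pow_add, Equiv.Perm.mul_apply] at hab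
    obtain ⟨u, hu, e⟩ := hpm j0 d
    rw [← (σ ^ a.val).injective hab] at e
    have h2 : u * (2 : ZMod 13) ^ d = 1 :=
      (mul_left_eq_self₀.1 e.symm).resolve_right hj0
    have hd6 : d < 6 := by have := b.isLt; omega
    have h3 := two_pow ⟨d, hd6⟩ (by show d ≠ 0; omega)
    rcases hu with rfl | rfl
    · exact h3.1 h2
    · exact h3.2 h2
  have hall : ∀ j, y j ≠ 0 := fun j => by
    obtain ⟨k, hk⟩ := (Finite.injective_iff_surjective.1 hinj) j
    obtain ⟨u, hu, e⟩ := hpm j0 k.val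
    rw [← hk, e]
    refine mul_ne_zero (mul_ne_zero ?_ (pow_ne_zero _ small_ne.2.2.1)) hj0
    rcases hu with rfl | rfl
    · exact small_ne.1
    · exact small_ne.2.1
  have h3 : ∏ j, (y (σ j) * (ε j : ZMod 13)) = ∏ j, (2 * y j) := Finset.prod_congr rfl fun j _ => hstep j
  rw [Finset.prod_mul_distrib, Equiv.prod_comp σ y, ← Int.cast_prod, hε, Int.cast_one, mul_one,
    Finset.prod_mul_distrib, Finset.prod_const, Finset.card_univ, Fintype.card_fin] at h3
  have h4 : (2 : ZMod 13) ^ 6 = 1 :=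
    (mul_left_eq_self₀.1 h3.symm).resolve_right (Finset.prod_ne_zero_iff.2 fun j _ => hall j)
  exact small_ne.2.2.2 h4

end Cfsg.Agent.Lib.E7Sixtyfive46
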