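import Cfsg.Prelude.Def_Classical
import Mathlib.Algebra.CharP.Two
import Mathlib.GroupTheory.OrderOfElement

/-!
Elements of order 65 in PSp₄(8), PSL₄(8), PSp₆(8) and PSU₄(8), from one matrix over a bit-coded model of the
field with eight elements.
-/

set_option autoImplicit false
set_option maxRecDepth 100000
set_option linter.unusedSectionVars false

namespace Cfsg.Agent.Lib.E7Sixtyfive46.Model65

open scoped Matrix

/-- the bitwise sum -/
def add8 (a b : Fin 8) : Fin 8 :=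
  ⟨([[0, 1, 2, 3, 4, 5, 6, 7], [1, 0, 3, 2, 5, 4, 7, 6], [2, 3, 0, 1, 6, 7, 4, 5], [3, 2, 1, 0, 7, 6, 5, 4],
    [4, 5, 6, 7, 0, 1, 2, 3], [5, 4, 7, 6, 1, 0, 3, 2], [6, 7, 4, 5, 2, 3, 0, 1],
    [7, 6, 5, 4, 3, 2, 1, 0]].getD a.val []).getD b.val 0 % 8, Nat.mod_lt _ (by norm_num)⟩

/-- the product modulo X³ + X + 1 -/
def mul8 (a b : Fin 8) : Fin 8 :=
  ⟨([[0, 0, 0, 0, 0, 0, 0, 0], [0, 1, 2, 3, 4, 5, 6, 7], [0, 2, 4, 6, 3, 1, 7, 5], [0, 3, 6, 5, 7, 4, 1, 2],
    [0, 4, 3, 7, 6, 2, 5, 1], [0, 5, 1, 4, 2, 7, 3, 6], [0, 6, 7, 1, 5, 3, 2, 4],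
    [0, 7, 5, 2, 1, 6, 4, 3]].getD a.val []).getD b.val 0 % 8, Nat.mod_lt _ (by norm_num)⟩

/-- a finite sum -/
def sum8 : {n : ℕ} → (Fin n → Fin 8) → Fin 8
  | 0, _ => 0
  | _ + 1, f => add8 (f 0) (sum8 fun i => f i.succ)

/-- coded matrices -/
abbrev M8 (n : ℕ) := Fin n → Fin n → Fin 8

/-- a matrix from rows -/
def ofL (n : ℕ) (L : List (List (Fin 8))) : M8 n := fun i j => (L.getD i.val []).getD j.val 0

/-- the product -/
def mmul {n : ℕ} (A B : M8 n) : M8 n := fun i k => sum8 fun j => mul8 (A i j) (B j k)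

/-- the identity -/
def one8 (n : ℕ) : M8 n := fun i j => if i = j then 1 else 0

/-- powers -/
def mpow {n : ℕ} (A : M8 n) : ℕ → M8 n
  | 0 => one8 n
  | k + 1 => mmul (mpow A k) A

/-- the transpose -/
def tp {n : ℕ} (A : M8 n) : M8 n := fun i j => A j i

/-- an element of order 65 -/
def g4 : M8 4 := ofL 4 [[3, 6, 7, 7], [7, 4, 4, 4], [0, 4, 7, 6], [0, 1, 7, 4]]

/-- a witness -/
def t4 : M8 4 := ofL 4 [[1, 0, 1, 0], [0, 1, 0, 0], [0, 0, 1, 0], [0, 0, 0, 1]]

/-- the form -/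
def J4 : M8 4 := ofL 4 [[0, 0, 1, 0], [0, 0, 0, 1], [1, 0, 0, 0], [0, 1, 0, 0]]

/-- an element of order 65 -/
def g6 : M8 6 := ofL 6 [[3, 6, 0, 7, 7, 0], [7, 4, 0, 4, 4, 0], [0, 0, 1, 0, 0, 0], [0, 4, 0, 7, 6, 0],
  [0, 1, 0, 7, 4, 0], [0, 0, 0, 0, 0, 1]]

/-- a witness -/
def t6 : M8 6 := ofL 6 [[1, 0, 0, 1, 0, 0], [0, 1, 0, 0, 0, 0], [0, 0, 1, 0, 0, 0], [0, 0, 0, 1, 0, 0],
  [0, 0, 0, 0, 1, 0], [0, 0, 0, 0, 0, 1]]

/-- the form -/
def J6 : M8 6 := ofL 6 [[0, 0, 0, 1, 0, 0], [0, 0, 0, 0, 1, 0], [0, 0, 0, 0, 0, 1], [1, 0, 0, 0, 0, 0],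
  [0, 1, 0, 0, 0, 0], [0, 0, 1, 0, 0, 0]]

/-- the data of an element of order 65 in a symplectic group -/
def Cert {n : ℕ} (g t J : M8 n) : Prop :=
  mpow (mpow g 5) 13 = one8 n ∧ mmul (mpow g 5) t ≠ mmul t (mpow g 5) ∧
    mmul (mpow g 13) t ≠ mmul t (mpow g 13) ∧ mmul (mmul g J) (tp g) = J ∧ mmul (mmul t J) (tp t) = J ∧
    mmul (mmul (tp g) J) g = J ∧ mmul (mmul (tp t) J) t = J ∧ mmul J J = one8 n

theorem cert4 : Cert g4 t4 J4 := by unfold Cert; decide +kernel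

theorem cert6 : Cert g6 t6 J6 := by unfold Cert; decide +kernel

theorem inv8 : ∀ a : Fin 8, a ≠ 0 → ∃ b, mul8 a b = 1 := by decide

theorem add8_eq_zero : ∀ a b : Fin 8, add8 a b = 0 → a = b := by decide

section Field

variable {F : Type*} [Field F] [CharP F 2]

/-- the value of a coded element -/
def val (α : F) (a : Fin 8) : F :=
  ([0, 1, α, α + 1, α ^ 2, α ^ 2 + 1, α ^ 2 + α, α ^ 2 + α + 1] : List F).getD a.val 0

variable {α : F} (hα : α ^ 3 + α + 1 = 0)
include hα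

theorem val_add (a b : Fin 8) : val α (add8 a b) = val α a + val α b := by
  have h2 : (2 : F) = 0 := CharTwo.two_eq_zero
  fin_cases a <;> fin_cases b <;> simp [val, add8] <;> grind

theorem val_mul (a b : Fin 8) : val α (mul8 a b) = val α a * val α b := by
  have h2 : (2 : F) = 0 := CharTwo.two_eq_zero
  fin_cases a <;> fin_cases b <;> simp [val, mul8] <;> grind

theorem val_zero : val α 0 = 0 := rfl

theorem val_one : val α 1 = 1 := rfl

theorem val_inj : Function.Injective (val α) := by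
  intro a b h
  refine add8_eq_zero a b ?_
  by_contra hne
  obtain ⟨c, hc⟩ := inv8 _ hne
  have h1 := val_mul hα (add8 a b) c
  rw [hc, val_add hα, h, CharTwo.add_self_eq_zero, zero_mul, val_one hα] at h1
  exact one_ne_zero h1

theorem val_sum : ∀ {n : ℕ} (f : Fin n → Fin 8), val α (sum8 f) = ∑ i, val α (f i)
  | 0, _ => by simp [sum8, val_zero hα]
  | n + 1, f => by rw [sum8, val_add hα, val_sum, Fin.sum_univ_succ]

/-- the matrix of a coded matrix -/
def toF (α : F) {n : ℕ} (A : M8 n) : Matrix (Fin n) (Fin n) F := Matrix.of fun i j => val α (A i j)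

theorem toF_mul {n : ℕ} (A B : M8 n) : toF α (mmul A B) = toF α A * toF α B := by
  ext i k
  simp only [toF, Matrix.of_apply, mmul, val_sum hα, val_mul hα, Matrix.mul_apply]

theorem toF_one (n : ℕ) : toF α (one8 n) = 1 := by
  ext i k
  by_cases h : i = k <;> simp [toF, one8, Matrix.one_apply, h, val_zero hα, val_one hα]

theorem toF_pow {n : ℕ} (A : M8 n) : ∀ k : ℕ, toF α (mpow A k) = toF α A ^ k
  | 0 => by rw [mpow, toF_one hα, pow_zero]
  | k + 1 => by rw [mpow, toF_mul hα, toF_pow A k, pow_succ]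

theorem toF_inj {n : ℕ} : Function.Injective (toF α : M8 n → Matrix (Fin n) (Fin n) F) := fun A B h =>
  funext fun i => funext fun j => val_inj hα (congrFun (congrFun h i) j)

theorem toF_tp {n : ℕ} (A : M8 n) : toF α (tp A) = (toF α A)ᵀ := rfl

/-- An element with the matrix of order 65 has order 65 modulo the centre. -/
theorem orderOf_quot {n : ℕ} {g t J : M8 n} (hc : Cert g t J) {G : Type*} [Group G]
    (ι : G →* Matrix (Fin n) (Fin n) F) (hι : Function.Injective ι) {x y : G} (hx : ι x = toF α g)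
    (hy : ι y = toF α t) : orderOf (x : G ⧸ Subgroup.center G) = 65 := by
  obtain ⟨h65, h5, h13, -⟩ := hc
  have key : ∀ k : ℕ, mmul (mpow g k) t ≠ mmul t (mpow g k) → x ^ k ∉ Subgroup.center G := by
    intro k hk hmem
    refine hk (toF_inj hα ?_)
    rw [toF_mul hα, toF_mul hα, toF_pow hα, ← hx, ← hy, ← map_pow, ← map_mul, ← map_mul]
    exact congrArg ι (Subgroup.mem_center_iff.1 hmem y).symm
  have hx65 : x ^ 65 = 1 := hι (by
    rw [map_pow, hx, map_one, show (65 : ℕ) = 5 * 13 from rfl, pow_mul, ← toF_pow hα, ← toF_pow hα, h65,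
      toF_one hα])
  have hd : orderOf (x : G ⧸ Subgroup.center G) ∣ 65 :=
    orderOf_dvd_of_pow_eq_one (by rw [← QuotientGroup.mk_pow, hx65, QuotientGroup.mk_one])
  have hn : ∀ k : ℕ, x ^ k ∉ Subgroup.center G → ¬ orderOf (x : G ⧸ Subgroup.center G) ∣ k := fun k hk hd => by
    rw [orderOf_dvd_iff_pow_eq_one, ← QuotientGroup.mk_pow, QuotientGroup.eq_one_iff] at hd
    exact hk hd
  have h5' := hn 5 (key 5 h5)
  have h13' := hn 13 (key 13 h13)
  have hmem := Nat.mem_divisors.2 ⟨hd, by norm_num⟩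
  rw [show (65 : ℕ).divisors = {1, 5, 13, 65} by decide] at hmem
  simp only [Finset.mem_insert, Finset.mem_singleton] at hmem
  rcases hmem with h | h | h | h
  · exact absurd (h ▸ one_dvd 5) h5'
  · exact absurd (h ▸ dvd_rfl) h5'
  · exact absurd (h ▸ dvd_rfl) h13'
  · exact h

theorem det_eq_one {n : ℕ} {A J : Matrix (Fin n) (Fin n) F} (hJ : J * J = 1) (h : A * J * Aᵀ = J) :
    A.det = 1 := by
  have hJd : J.det ≠ 0 := fun h0 => by
    have := congrArg Matrix.det hJ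
    rw [Matrix.det_mul, h0, zero_mul, Matrix.det_one] at this
    exact zero_ne_one this
  have h1 := congrArg Matrix.det h
  rw [Matrix.det_mul, Matrix.det_mul, Matrix.det_transpose] at h1
  have h2 : A.det ^ 2 = 1 := mul_right_cancel₀ hJd (by linear_combination h1)
  exact CharTwo.sq_injective (h2.trans (one_pow 2).symm)

/-- PSp₂ₘ over a field containing the model has an element of order 65. -/
theorem exists_PSp {m : ℕ} {g t J : M8 (m + m)} (hc : Cert g t J)
    (hJ : ∀ i j : Fin m ⊕ Fin m, val α (J (finSumFinEquiv i) (finSumFinEquiv j)) = Matrix.J (Fin m) F i j) :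
    ∃ x : Cfsg.PSp m F, orderOf x = 65 := by
  let e : Fin m ⊕ Fin m ≃ Fin (m + m) := finSumFinEquiv
  let R := Matrix.reindexAlgEquiv F F e
  have hRJ : R.symm (toF α J) = Matrix.J (Fin m) F := Matrix.ext hJ
  have hmem : ∀ A : M8 (m + m), mmul (mmul A J) (tp A) = J →
      R.symm (toF α A) ∈ Matrix.symplecticGroup (Fin m) F := fun A hA => by
    rw [SymplecticGroup.mem_iff, ← hRJ,
      show (R.symm (toF α A))ᵀ = R.symm ((toF α A)ᵀ) from rfl, ← map_mul, ← map_mul, ← toF_tp hα,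
      ← toF_mul hα, ← toF_mul hα, hA]
  let ι : ↥(Matrix.symplecticGroup (Fin m) F) →* Matrix (Fin (m + m)) (Fin (m + m)) F :=
    (R.toAlgHom.toRingHom.toMonoidHom).comp (Submonoid.subtype _)
  have hι : Function.Injective ι := fun a b h => Subtype.ext (R.injective h)
  exact ⟨_, orderOf_quot hα hc ι hι (x := ⟨_, hmem g hc.2.2.2.1⟩) (y := ⟨_, hmem t hc.2.2.2.2.1⟩)
    (show R (R.symm (toF α g)) = toF α g from R.apply_symm_apply _)
    (show R (R.symm (toF α t)) = toF α t from R.apply_symm_apply _)⟩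

theorem exists_PSp_two : ∃ x : Cfsg.PSp 2 F, orderOf x = 65 :=
  exists_PSp hα (m := 2) cert4 fun i j => by
    fin_cases i <;> fin_cases j <;>
      simp [val, J4, ofL, Matrix.J, Matrix.fromBlocks, finSumFinEquiv, CharTwo.neg_eq]

theorem exists_PSp_three : ∃ x : Cfsg.PSp 3 F, orderOf x = 65 :=
  exists_PSp hα (m := 3) cert6 fun i j => by
    fin_cases i <;> fin_cases j <;>
      simp [val, J6, ofL, Matrix.J, Matrix.fromBlocks, finSumFinEquiv, CharTwo.neg_eq]

theorem exists_PSL : ∃ x : Matrix.ProjectiveSpecialLinearGroup (Fin 4) F, orderOf x = 65 := by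
  have hJ : toF α J4 * toF α J4 = 1 := by rw [← toF_mul hα, cert4.2.2.2.2.2.2.2, toF_one hα]
  have hd : ∀ A : M8 4, mmul (mmul A J4) (tp A) = J4 → (toF α A).det = 1 := fun A hA =>
    det_eq_one hα hJ (by rw [← toF_tp hα, ← toF_mul hα, ← toF_mul hα, hA])
  exact ⟨_, orderOf_quot hα cert4 (slToMat 4 F) (fun a b h => Subtype.ext h)
    (x := ⟨toF α g4, hd g4 cert4.2.2.2.1⟩) (y := ⟨toF α t4, hd t4 cert4.2.2.2.2.1⟩) rfl rfl⟩

theorem exists_PSU {x : F} (hx : x ^ 8 + x + 1 = 0) (hα8 : α ^ 8 = α) :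
    ∃ z : Cfsg.PSU 4 F 8, orderOf z = 65 := by
  let P : Matrix (Fin 4) (Fin 4) F := !![1, 0, x, 0; 1, 0, x + 1, 0; 0, 1, 0, x; 0, 1, 0, x + 1]
  let Q : Matrix (Fin 4) (Fin 4) F := !![x + 1, x, 0, 0; 0, 0, x + 1, x; 1, 1, 0, 0; 0, 0, 1, 1]
  have h2 : (2 : F) = 0 := CharTwo.two_eq_zero
  have hQP : Q * P = 1 := by
    ext i j
    fin_cases i <;> fin_cases j <;> simp [P, Q, Matrix.mul_apply, Fin.sum_univ_four] <;> grind
  have hPQ : P * Q = 1 := mul_eq_one_comm.1 hQP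
  let φ : F →+* F := iterateFrobenius F 2 3
  have hφ : ∀ a : F, φ a = a ^ 8 := fun a => iterateFrobenius_def 2 3 a
  have hPJ : Pᵀ * P.map φ = toF α J4 := by
    ext i j
    fin_cases i <;> fin_cases j <;>
      simp [P, hφ, Matrix.mul_apply, Fin.sum_univ_four, toF, val, J4, ofL] <;> grind
  have hval8 : ∀ a : Fin 8, φ (val α a) = val α a := by
    intro a
    have hα8' : φ α = α := (hφ α).trans hα8
    fin_cases a <;> simp [val, hα8']
  have hcert := cert4
  obtain ⟨-, -, -, hg, ht, hg', ht', hJJ⟩ := hcert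
  have hJ : toF α J4 * toF α J4 = 1 := by rw [← toF_mul hα, hJJ, toF_one hα]
  have hmk : ∀ A : M8 4, mmul (mmul A J4) (tp A) = J4 → mmul (mmul (tp A) J4) A = J4 →
      ∃ h : SU 4 F 8, slToMat 4 F h.1 = P * toF α A * Q := by
    intro A hA hA'
    have hdet : (P * toF α A * Q).det = 1 := by
      rw [Matrix.det_mul, Matrix.det_mul,
        det_eq_one hα hJ (show toF α A * toF α J4 * (toF α A)ᵀ = toF α J4 by
          rw [← toF_tp hα, ← toF_mul hα, ← toF_mul hα, hA]), mul_one, ← Matrix.det_mul, hPQ, Matrix.det_one]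
    have hP1 : Qᵀ * (toF α J4 * Q.map φ) = 1 := by
      rw [← hPJ, Matrix.mul_assoc, ← Matrix.map_mul, hPQ, Matrix.map_one φ (map_zero φ) (map_one φ),
        Matrix.mul_one, ← Matrix.transpose_mul, hPQ, Matrix.transpose_one]
    have hB : (P * toF α A * Q)ᵀ * (P * toF α A * Q).map φ = 1 := by
      have hA8 : (toF α A).map φ = toF α A := Matrix.ext fun i j => hval8 (A i j)
      have hA2 : (toF α A)ᵀ * toF α J4 * toF α A = toF α J4 := by
        rw [← toF_tp hα, ← toF_mul hα, ← toF_mul hα, hA']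
      rw [Matrix.map_mul, Matrix.map_mul, hA8, Matrix.transpose_mul, Matrix.transpose_mul]
      calc Qᵀ * ((toF α A)ᵀ * Pᵀ) * (P.map φ * toF α A * Q.map φ)
          = Qᵀ * ((toF α A)ᵀ * (Pᵀ * P.map φ) * toF α A * Q.map φ) := by simp only [Matrix.mul_assoc]
        _ = 1 := by rw [hPJ, hA2, hP1]
    refine ⟨⟨⟨P * toF α A * Q, hdet⟩, fun u v => ?_⟩, rfl⟩
    show hermForm 4 F 8 ((P * toF α A * Q) *ᵥ u) ((P * toF α A * Q) *ᵥ v) = hermForm 4 F 8 u v
    have e : ∀ a b : Fin 4 → F, hermForm 4 F 8 a b = a ⬝ᵥ fun i => φ (b i) := fun a b =>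
      Finset.sum_congr rfl fun i _ => by show _ = a i * φ (b i); rw [hφ]
    rw [e, e, show (fun i => φ (((P * toF α A * Q) *ᵥ v) i)) = (P * toF α A * Q).map φ *ᵥ fun i => φ (v i) from
      funext fun i => φ.map_mulVec _ _ i, ← Matrix.vecMul_transpose, ← Matrix.dotProduct_mulVec,
      Matrix.mulVec_mulVec, hB, Matrix.one_mulVec]
  obtain ⟨hg1, hg2⟩ := hmk g4 hg hg'
  obtain ⟨ht1, ht2⟩ := hmk t4 ht ht'
  let ι : ↥(SU 4 F 8) →* Matrix (Fin 4) (Fin 4) F :=
    { toFun := fun h => Q * slToMat 4 F h.1 * P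
      map_one' := by rw [Subgroup.coe_one, map_one, Matrix.mul_one, hQP]
      map_mul' := fun a b => by
        rw [Subgroup.coe_mul, map_mul]
        calc Q * (slToMat 4 F a.1 * slToMat 4 F b.1) * P
            = Q * slToMat 4 F a.1 * (P * Q) * slToMat 4 F b.1 * P := by
              rw [hPQ, Matrix.mul_one]; simp only [Matrix.mul_assoc]
          _ = _ := by simp only [Matrix.mul_assoc] }
  have hback : ∀ X : Matrix (Fin 4) (Fin 4) F, P * (Q * X * P) * Q = X := fun X => by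
    rw [← Matrix.mul_assoc, ← Matrix.mul_assoc, hPQ, Matrix.one_mul, Matrix.mul_assoc, hPQ, Matrix.mul_one]
  have hfwd : ∀ X : Matrix (Fin 4) (Fin 4) F, Q * (P * X * Q) * P = X := fun X => by
    rw [← Matrix.mul_assoc, ← Matrix.mul_assoc, hQP, Matrix.one_mul, Matrix.mul_assoc, hQP, Matrix.mul_one]
  have hι : Function.Injective ι := fun a b h => Subtype.ext (Subtype.ext (by
    have h1 := congrArg (fun Y => P * Y * Q) h
    simp only [ι, MonoidHom.coe_mk, OneHom.coe_mk, hback] at h1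
    exact h1))
  refine ⟨_, orderOf_quot hα cert4 ι hι (x := hg1) (y := ht1) ?_ ?_⟩
  · show Q * slToMat 4 F hg1.1 * P = _; rw [hg2, hfwd]
  · show Q * slToMat 4 F ht1.1 * P = _; rw [ht2, hfwd]

end Field

end Cfsg.Agent.Lib.E7Sixtyfive46.Model65
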