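import Cfsg.Agent.Lib.E7Sixtyfive46.Weyl
import Cfsg.Agent.Lib.ChevStructure.RegTorus.Main
import Cfsg.Agent.Lib.ChevFixed.Data
import Mathlib.FieldTheory.Finite.GaloisField
import Mathlib.RingTheory.RootsOfUnity.PrimitiveRoots
import Mathlib.GroupTheory.Nilpotent

/-!
E₇(2) has no element of order 65: such an element would lie in a torus over the field with 4096 elements,
and the Weyl group element of the Frobenius would have eigenvalue 2 both modulo 13 and modulo 5.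
-/

set_option autoImplicit false
set_option maxRecDepth 100000
set_option linter.unusedSectionVars false

namespace Cfsg.Agent.Lib.E7Sixtyfive46

open Cfsg.Lie Cfsg.Agent.Lib.ChevStructure Cfsg.Agent.Lib.ChevStructure.RegTorus
open scoped MatrixGroups Matrix

theorem commOK : CommOK C := Cert.E7.core.commOK_mild mildE7

variable {K : Type*} [Field K] [Fintype K] [CharP K 2]

/-- from the small group to the large one -/
noncomputable def emb : GL chevE7.Idx (ZMod 2) →* GL chevE7.Idx K :=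
  Matrix.GeneralLinearGroup.map (n := chevE7.Idx) (ZMod.castHom (dvd_refl 2) K)

/-- the Frobenius on the matrices -/
noncomputable def frobG : GL chevE7.Idx K →* GL chevE7.Idx K :=
  Matrix.GeneralLinearGroup.map (n := chevE7.Idx) (frobenius K 2)

theorem emb_injective : Function.Injective (emb (K := K)) :=
  ChevFixed.map_injective (f := ZMod.castHom (dvd_refl 2) K) (RingHom.injective _)

theorem emb_mem {x : GL chevE7.Idx (ZMod 2)} (hx : x ∈ chevE7.group (ZMod 2)) :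
    emb (K := K) x ∈ chevE7.group K :=
  ChevFixed.map_group_le C _ ⟨x, hx, rfl⟩

theorem frobG_emb (x : GL chevE7.Idx (ZMod 2)) : frobG (emb (K := K) x) = emb x :=
  Units.ext (Matrix.ext fun _ _ => RingHom.congr_fun
    (RingHom.ext_zmod ((frobenius K 2).comp (ZMod.castHom (dvd_refl 2) K)) (ZMod.castHom (dvd_refl 2) K)) _)

theorem frobG_HT (e : I7 → Kˣ) : frobG (C.HT K e) = C.HT K (e ^ 2) := by
  rw [frobG, ChevFixed.map_HT C (frobenius K 2) e]
  congr 1

theorem frobG_mem {x : GL chevE7.Idx K} (hx : x ∈ chevE7.group K) : frobG x ∈ chevE7.group K :=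
  ChevFixed.map_group_le C _ ⟨x, hx, rfl⟩

theorem chA_pow (e : I7 → Kˣ) (k : ℕ) (y : Rt chevE7) : C.chA (e ^ k) y = C.chA e y ^ k := by
  simp only [Core.chA, Pi.pow_apply, ← zpow_natCast, ← Finset.prod_zpow, ← zpow_mul, mul_comm]

theorem chA_one (y : Rt chevE7) : C.chA (1 : I7 → Kˣ) y = 1 := by simp [Core.chA]

theorem HT_inj : Function.Injective (C.HT K) := fun _ _ h =>
  ChevFixed.HT_injective C ChevFixed.invCartan_E7 (fun x hx => Units.ext (frobenius_inj K 2 (by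
    rw [frobenius_def, frobenius_def, ← Units.val_pow_eq_pow_val, hx, Units.val_one, one_pow]))) h

theorem chA_surj (χ : I7 → Kˣ) : ∃ c, ∀ k, C.chA c (C.p k) = χ k := by
  have h3 : Function.Surjective fun (c : I7 → Kˣ) k => C.chA c (C.p k) :=
    Finite.injective_iff_surjective.1 fun a b h => HT_inj (RegTorus.HT_ext (congrFun h))
  obtain ⟨c, hc⟩ := h3 χ
  exact ⟨c, congrFun hc⟩

theorem HT_pow (e : I7 → Kˣ) (k : ℕ) : C.HT K e ^ k = C.HT K (e ^ k) := (map_pow (C.HThom K) e k).symm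

/-- The Weyl group element of the Frobenius with respect to fixed points in a conjugate of the torus. -/
theorem weyl_of {ι : Type*} {g : GL chevE7.Idx K} (hg : g ∈ chevE7.group K)
    {c : ι → Fin chevE7.rank → Kˣ}
    (hfix : ∀ i, frobG (g * C.HT K (c i) * g⁻¹) = g * C.HT K (c i) * g⁻¹) :
    ∃ π ∈ C.WG, ∀ i y, C.chA (c i) (π y) = C.chA (c i) y ^ 2 := by
  set n' := g⁻¹ * frobG g with hn'
  have hn'G : n' ∈ chevE7.group K := mul_mem (inv_mem hg) (frobG_mem hg)
  have hrel : ∀ i, n' * C.HT K (c i ^ 2) = C.HT K (c i) * n' := by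
    intro i
    have h := hfix i
    rw [map_mul, map_mul, map_inv, frobG_HT] at h
    rw [hn']
    calc g⁻¹ * frobG g * C.HT K (c i ^ 2)
        = g⁻¹ * (frobG g * C.HT K (c i ^ 2) * (frobG g)⁻¹) * frobG g := by group
      _ = _ := by rw [h]; group
  clear_value n'
  obtain ⟨v, e, L, u, hv, hu, rfl⟩ := ChevFixed.Basic.exists_normalForm commOK hn'G
  refine ⟨C.pprod L, C.pprod_mem_WG L, fun i y => ?_⟩
  have hUv : ∀ (d : Fin chevE7.rank → Kˣ) (S : Set (Rt chevE7)) (x : GL chevE7.Idx K), x ∈ C.US K S →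
      C.HT K d * x * (C.HT K d)⁻¹ ∈ C.US K S := fun d S x hx =>
    (Subgroup.mem_normalizer_iff.1 (C.HT_mem_normalizer K d S) x).1 hx
  obtain ⟨e', he'⟩ := C.wprod_HT K L (c i ^ 2)⁻¹
  set h := C.HT K (c i ^ 2) with hh
  set h' := C.HT K (c i) with hh'
  have hinv : C.HT K (c i ^ 2)⁻¹ = h⁻¹ := (C.HT_inv K _).symm
  have hw : C.HT K e' * C.wprod K L = C.wprod K L * h⁻¹ := by rw [← hinv]; exact he'.symm
  have hfx : (h' * v * h'⁻¹ * (C.HT K (c i * e) * C.HT K e')) * C.wprod K L * (h * u * h⁻¹) =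
      v * C.HT K e * C.wprod K L * u := by
    calc (h' * v * h'⁻¹ * (C.HT K (c i * e) * C.HT K e')) * C.wprod K L * (h * u * h⁻¹)
        = h' * v * h'⁻¹ * C.HT K (c i * e) * (C.HT K e' * C.wprod K L) * (h * u * h⁻¹) := by group
      _ = h' * v * h'⁻¹ * (h' * C.HT K e) * (C.wprod K L * h⁻¹) * (h * u * h⁻¹) := by rw [hw, hh', C.HT_mul]
      _ = h' * (v * C.HT K e * C.wprod K L * u) * h⁻¹ := by group
      _ = _ := by rw [← hrel i, mul_inv_cancel_right]
  obtain ⟨-, hb⟩ := ChevFixed.Basic.normalForm_unique (C.acts_wprod K L)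
    (mul_mem (C.posUS_le_borel (hUv _ _ v hv))
      (mul_mem (C.diagonal_le_borel (C.HT_mem_diagonal _)) (C.diagonal_le_borel (C.HT_mem_diagonal _))))
    (mul_mem (C.posUS_le_borel hv) (C.diagonal_le_borel (C.HT_mem_diagonal e)))
    (hUv _ _ u hu) hu hfx
  have h3 : v⁻¹ * (h' * v * h'⁻¹) = C.HT K e * (C.HT K (c i * e) * C.HT K e')⁻¹ := by
    rw [eq_mul_inv_iff_mul_eq, mul_assoc, hb, inv_mul_cancel_left]
  have h4 : v⁻¹ * (h' * v * h'⁻¹) = 1 := by
    rw [← Subgroup.mem_bot, ← C.US_inf_diagonal]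
    refine Subgroup.mem_inf.2 ⟨mul_mem (inv_mem hv) (hUv _ _ v hv), ?_⟩
    rw [h3]
    exact mul_mem (C.HT_mem_diagonal _) (inv_mem (mul_mem (C.HT_mem_diagonal _) (C.HT_mem_diagonal _)))
  have h5 : C.HT K e' = h'⁻¹ := by
    rw [h4, eq_comm, mul_inv_eq_one] at h3
    rw [hh', C.HT_inv]
    apply mul_left_cancel (a := C.HT K (c i * e))
    rw [← h3, C.HT_mul, mul_comm (c i) e, mul_inv_cancel_right]
  have h6 : C.wprod K L * h = h' * C.wprod K L := by
    rw [h5] at hw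
    calc C.wprod K L * h = h' * (h'⁻¹ * C.wprod K L) * h := by group
      _ = _ := by rw [hw]; group
  rw [← chA_pow]
  exact RegTorus.chA_of_conj (C.acts_wprod K L) h6 y

/-- A torus element of prime order as a functional modulo this prime. -/
theorem exists_vec {r : ℕ} [Fact r.Prime] (hr : r ∣ Nat.card Kˣ) {c : I7 → Kˣ} (hc : orderOf c = r) :
    ∃ E : I7 → ZMod r, E ≠ 0 ∧ ∀ (π : Equiv.Perm (Rt chevE7)) (n : ℕ), π ∈ C.WG →
      (∀ y, C.chA c (π y) = C.chA c y ^ n) → act E π = (n : ZMod r) • E := by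
  obtain ⟨ζ, hζ⟩ := exists_prime_orderOf_dvd_card' (G := Kˣ) r hr
  haveI : NeZero r := ⟨(Fact.out : r.Prime).ne_zero⟩
  have hprim : IsPrimitiveRoot (ζ : K) r :=
    IsPrimitiveRoot.coe_units_iff.2 (IsPrimitiveRoot.iff_orderOf.2 hζ)
  have hex : ∀ k, ∃ i : ℕ, ζ ^ i = C.chA c (C.p k) := fun k => by
    obtain ⟨i, -, hi⟩ := hprim.eq_pow_of_pow_eq_one (ξ := ((C.chA c (C.p k) : Kˣ) : K)) (by
      rw [← Units.val_pow_eq_pow_val, ← chA_pow, ← hc, pow_orderOf_eq_one, chA_one, Units.val_one])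
    exact ⟨i, Units.ext (by rw [Units.val_pow_eq_pow_val]; exact hi)⟩
  choose a ha using hex
  let E : I7 → ZMod r := fun k => (a k : ZMod r)
  have hval : ∀ y, C.chA c y = ζ ^ (ev C (fun k => (a k : ℤ)) y) := fun y => by
    rw [← C.chr_chA, Core.chr, ev, dotProduct, C.zpow_fsum]
    refine Finset.prod_congr rfl fun k _ => ?_
    rw [← ha, ← zpow_natCast, ← zpow_mul]
    rfl
  have hev : ∀ y, ev C E y = ((ev C (fun k => (a k : ℤ)) y : ℤ) : ZMod r) := fun y => by
    simp [ev, dotProduct, E]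
  refine ⟨E, fun h0 => ?_, fun π n hπ h => ?_⟩
  · have h1 : c = 1 := HT_inj (RegTorus.HT_ext fun k => by
      have hk : ζ ^ a k = 1 := orderOf_dvd_iff_pow_eq_one.1
        (hζ.symm ▸ (ZMod.natCast_eq_zero_iff (a k) r).1 (congrFun h0 k))
      rw [← ha, hk, chA_one])
    rw [h1, orderOf_one] at hc
    exact (Fact.out : r.Prime).one_lt.ne hc
  · refine RegTorus.ev_ext C fun y => ?_
    have h1 := h y
    rw [hval, hval, ← zpow_natCast, ← zpow_mul, RegTorus.zpow_ext hζ, ← hev, Int.cast_mul, ← hev,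
      Int.cast_natCast] at h1
    rw [act, cm, ← ev_apply C E hπ, h1, mul_comm, ev, ev, smul_dotProduct, smul_eq_mul]

theorem v_small : ∀ x : Rt chevE7, ∀ k : I7, |vv x.val k| < 5 := by
  unfold Rt; decide +kernel

theorem gcd_torus : ∀ i : I7, Nat.gcd (4096 - 1) (Order.DataTorus.dE7.getD i.val 0) = 1 := by
  decide +kernel

theorem degs_thirteen : ∀ e ∈ ([2, 6, 8, 10, 12, 14, 18] : List ℕ), ¬ 13 ∣ e ∧ 0 < e := by decide

section Card

variable (hK : Fintype.card K = 4096)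
include hK

theorem card_units : Nat.card Kˣ = 4095 := by
  rw [Nat.card_units, Nat.card_eq_fintype_card, hK]

/-- An element of order 13 is conjugate into the torus. -/
theorem conj_thirteen {X : ↥(chevE7.group K)} (hX : orderOf X = 13) :
    ∃ h ∈ chevE7.group K, ∃ c, h⁻¹ * (X : GL chevE7.Idx K) * h = C.HT K c := by
  haveI : Fact (Nat.Prime 13) := ⟨by norm_num⟩
  let G := chevE7.group K
  let T := chevE7.diagonalSubgroup K
  have hdiag : Nat.card ↥T = (4096 - 1) ^ chevE7.rank := by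
    have := Order.CertE7.card_diagonal (K := K) hK
    simp only [gcd_torus, Finset.prod_const_one, one_mul] at this
    exact this
  have hgrp : Nat.card ↥G = 4096 ^ (chevE7.nroots / 2) *
      (([2, 6, 8, 10, 12, 14, 18] : List ℕ).map fun e => 4096 ^ e - 1).prod := by
    have := Order.CertE7.card_group (K := K) hK
    simp only [gcd_torus, Finset.prod_const_one, one_mul] at this
    exact this
  have hfac : (Nat.card ↥G).factorization 13 = (Nat.card ↥T).factorization 13 := by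
    rw [hgrp, hdiag]
    obtain ⟨h0, h⟩ := RegTorus.factorization_prod (r := 13) (Q := 4096) (by norm_num) (by norm_num)
      [2, 6, 8, 10, 12, 14, 18] degs_thirteen
    rw [Nat.factorization_mul (pow_ne_zero _ (by norm_num)) h0, Finsupp.add_apply, h,
      Nat.factorization_pow 4096, Nat.factorization_pow (4096 - 1), Finsupp.smul_apply, Finsupp.smul_apply,
      Nat.factorization_eq_zero_of_not_dvd (n := 4096) (p := 13) (by norm_num), smul_zero, zero_add, smul_eq_mul]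
    rfl
  let PT : Sylow 13 ↥T := default
  let SS : Subgroup (GL chevE7.Idx K) := (PT : Subgroup ↥T).map T.subtype
  have hSST : SS ≤ T := Subgroup.map_subtype_le _
  have hSSG : SS ≤ G := hSST.trans C.diagonal_le_group
  have hcSS : Nat.card ↥(SS.subgroupOf G) = 13 ^ (Nat.card ↥G).factorization 13 := by
    rw [Nat.card_congr (Subgroup.subgroupOfEquivOfLe hSSG).toEquiv, hfac,
      Subgroup.card_map_of_injective T.subtype_injective]
    exact PT.card_eq_multiplicity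
  let P0 : Sylow 13 ↥G := Sylow.ofCard (SS.subgroupOf G) hcSS
  have hpg : IsPGroup 13 (Subgroup.zpowers X) :=
    IsPGroup.of_card (n := 1) (by rw [Nat.card_zpowers, hX, pow_one])
  obtain ⟨P1, hP1⟩ := hpg.exists_le_sylow
  obtain ⟨z, hz⟩ := MulAction.exists_smul_eq ↥G P1 P0
  have h2 : z * X * z⁻¹ ∈ (P0 : Subgroup ↥G) := by
    rw [← hz]
    exact ⟨X, hP1 (Subgroup.mem_zpowers X), rfl⟩
  obtain ⟨c, hc⟩ := C.mem_diagonal_iff.1 (hSST h2)
  refine ⟨((z : GL chevE7.Idx K))⁻¹, inv_mem z.2, c, ?_⟩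
  rw [inv_inv]
  exact hc

/-- A regular element of the torus normaliser whose permutation fixes the functional lies in the torus. -/
theorem mem_torus {c : I7 → Kˣ} {E : I7 → ZMod 13} (hE : E ≠ 0) {π : Equiv.Perm (Rt chevE7)} (hπ : π ∈ C.WG)
    (hEπ : act E π = (2 : ZMod 13) • E)
    (hEvec : ∀ (σ : Equiv.Perm (Rt chevE7)) (n : ℕ), σ ∈ C.WG →
      (∀ y, C.chA c (σ y) = C.chA c y ^ n) → act E σ = (n : ZMod 13) • E)
    {g : GL chevE7.Idx K} (hg : g ∈ chevE7.group K) {k : ℕ} (hgk : g ^ 5 ^ k = 1)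
    (hgc : g * C.HT K c = C.HT K c * g)
    (hnorm : ∀ e : I7 → Kˣ, e ^ 5 = 1 → g * C.HT K e * g⁻¹ ∈ chevE7.diagonalSubgroup K) :
    g ∈ chevE7.diagonalSubgroup K := by
  classical
  haveI : Fact (Nat.Prime 5) := ⟨Nat.prime_five⟩
  let ι := {e : I7 → Kˣ // e ^ 5 = 1}
  have htr0 : ∀ i : ι, ∃ e : ι, g * C.HT K i.1 = C.HT K e.1 * g := by
    intro i
    obtain ⟨e, he⟩ := C.mem_diagonal_iff.1 (hnorm i.1 i.2)
    refine ⟨⟨e, HT_inj ?_⟩, by show _ = C.HT K e * g; rw [← he, inv_mul_cancel_right]⟩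
    rw [← HT_pow, ← he, conj_pow, HT_pow, i.2, C.HT_one, mul_one, mul_inv_cancel]
  choose tr htr using htr0
  have htr_inj : Function.Injective tr := fun i j h => by
    have := (htr i).trans ((congrArg (fun e : ι => C.HT K e.1 * g) h).trans (htr j).symm)
    exact Subtype.ext (HT_inj (mul_left_cancel this))
  have htr_surj : Function.Surjective tr := Finite.injective_iff_surjective.1 htr_inj
  obtain ⟨ζ, hζ⟩ := exists_prime_orderOf_dvd_card' (G := Kˣ) 5 (by rw [card_units hK]; norm_num)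
  have hgen : ∀ x, ∃ i : ι, C.chA i.1 x ≠ 1 := by
    intro x
    obtain ⟨m, hm⟩ : ∃ m, C.v x m ≠ 0 := Function.ne_iff.1 (C.v_ne_zero x)
    obtain ⟨e, he⟩ := chA_surj (K := K) (Pi.mulSingle m ζ)
    refine ⟨⟨e, HT_inj (RegTorus.HT_ext fun j => ?_)⟩, ?_⟩
    · rw [chA_pow, he, chA_one, ← Pi.pow_apply, ← Pi.mulSingle_pow, ← hζ, pow_orderOf_eq_one,
        Pi.mulSingle_one, Pi.one_apply]
    · show C.chA e x ≠ 1
      rw [← C.chr_chA, funext he, C.chr_single]
      intro h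
      rw [← zpow_zero ζ, RegTorus.zpow_ext hζ, Int.cast_zero, ZMod.intCast_zmod_eq_zero_iff_dvd] at h
      exact hm (Int.eq_zero_of_abs_lt_dvd h (v_small x m))
  obtain ⟨e0, L, hgeq, -⟩ := exists_wprod_of_conj commOK (c := fun i : ι => i.1) (c' := fun i => (tr i).1) hgen
    (fun x => by
      obtain ⟨i, hi⟩ := hgen x
      obtain ⟨j, rfl⟩ := htr_surj i
      exact ⟨j, hi⟩) hg htr
  have hacts : C.Acts g (C.pprod L) := by rw [hgeq]; exact C.acts_HT_wprod K e0 L
  have hLW : C.pprod L ∈ C.WG := C.pprod_mem_WG L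
  have hfix : act E (C.pprod L) = E := by
    rw [hEvec _ 1 hLW fun y => by rw [pow_one]; exact RegTorus.chA_of_conj hacts hgc y, Nat.cast_one, one_smul]
  set m := orderOf (C.pprod L) with hm
  have hm5 : ¬ 5 ∣ m := by
    intro h5
    have hmem : C.pprod L ^ (m / 5) ∈ stabW E :=
      pow_mem (show C.pprod L ∈ stabW E from ⟨hLW, hfix⟩) _
    refine no_five hπ hmem.1 ?_ hE hEπ hmem.2
    exact orderOf_pow_orderOf_div (orderOf_pos _).ne' h5
  have hgm : g ^ m ∈ chevE7.diagonalSubgroup K := by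
    have hgN : g ∈ chevE7.monomialSubgroup K := by
      rw [hgeq]; exact mul_mem (C.HT_mem_monomial e0) (C.wprod_mem_monomial L)
    obtain ⟨c1, L1, h1⟩ := C.exists_word_monomial (pow_mem hgN m)
    have hpow : ∀ i : ℕ, C.Acts (g ^ i) (C.pprod L ^ i) := by
      intro i
      induction i with
      | zero =>
        rw [pow_zero, pow_zero, ← C.HT_one K]
        exact C.acts_HT K 1
      | succ i ih => rw [pow_succ, pow_succ]; exact C.acts_mul K ih hacts
    have h2 := hpow m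
    rw [hm, pow_orderOf_eq_one, ← hm] at h2
    have h3 : C.pprod L1 = 1 := C.acts_unique K (h1 ▸ C.acts_HT_wprod K c1 L1) h2
    obtain ⟨c2, hc2⟩ := C.wprod_eq_HT_of_pprod_eq_one K h3
    rw [h1, hc2, C.HT_mul]
    exact C.HT_mem_diagonal _
  have hcop : Nat.Coprime m (5 ^ k) := (Nat.Coprime.pow_left k (Nat.prime_five.coprime_iff_not_dvd.2 hm5)).symm
  have hb := Int.gcd_eq_gcd_ab (m : ℤ) ((5 ^ k : ℕ) : ℤ)
  rw [Int.gcd_natCast_natCast, hcop, Nat.cast_one] at hb
  rw [← zpow_one g, hb, _root_.zpow_add, zpow_mul, zpow_mul, zpow_natCast, zpow_natCast, hgk, one_zpow, mul_one]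
  exact Subgroup.zpow_mem _ hgm _

/-- The subgroup of the torus of 5-elements. -/
def torusFive : Subgroup (GL chevE7.Idx K) where
  carrier := {t | t ∈ chevE7.diagonalSubgroup K ∧ ∃ k : ℕ, t ^ 5 ^ k = 1}
  one_mem' := ⟨one_mem _, 0, one_pow _⟩
  mul_mem' := by
    rintro a b ⟨ha, i, hi⟩ ⟨hb, j, hj⟩
    refine ⟨mul_mem ha hb, i + j, ?_⟩
    have hcomm : Commute a b := by
      obtain ⟨c, rfl⟩ := C.mem_diagonal_iff.1 ha
      obtain ⟨d, rfl⟩ := C.mem_diagonal_iff.1 hb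
      show _ = _
      rw [C.HT_mul, C.HT_mul, mul_comm]
    rw [hcomm.mul_pow, pow_add, pow_mul, hi, one_pow, mul_comm (5 ^ i), pow_mul, hj, one_pow, mul_one]
  inv_mem' := by
    rintro a ⟨ha, i, hi⟩
    exact ⟨inv_mem ha, i, by rw [inv_pow, hi, inv_one]⟩

/-- A 5-subgroup centralising a torus element of order 13 is conjugate into the torus by an element
centralising it. -/
theorem conj_five_torus {c : I7 → Kˣ} {E : I7 → ZMod 13} (hE : E ≠ 0) {π : Equiv.Perm (Rt chevE7)}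
    (hπ : π ∈ C.WG) (hEπ : act E π = (2 : ZMod 13) • E)
    (hEvec : ∀ (σ : Equiv.Perm (Rt chevE7)) (n : ℕ), σ ∈ C.WG →
      (∀ y, C.chA c (σ y) = C.chA c y ^ n) → act E σ = (n : ZMod 13) • E)
    {Y : ↥(chevE7.group K)} (hY : orderOf Y = 5)
    (hYc : (Y : GL chevE7.Idx K) * C.HT K c = C.HT K c * (Y : GL chevE7.Idx K)) :
    ∃ z ∈ chevE7.group K, z * C.HT K c = C.HT K c * z ∧
      z * (Y : GL chevE7.Idx K) * z⁻¹ ∈ chevE7.diagonalSubgroup K := by
  classical
  haveI : Fact (Nat.Prime 5) := ⟨Nat.prime_five⟩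
  let G := chevE7.group K
  let A : ↥G := ⟨C.HT K c, C.HT_mem_group c⟩
  let Z : Subgroup ↥G := Subgroup.centralizer {A}
  let v : ↥Z →* GL chevE7.Idx K := G.subtype.comp Z.subtype
  have hv : Function.Injective v := Subtype.coe_injective.comp Subtype.coe_injective
  let S0 : Subgroup ↥Z := (torusFive).comap v
  have hS0 : IsPGroup 5 ↥S0 := fun s => by
    obtain ⟨k, hk⟩ := s.2.2
    exact ⟨k, Subtype.ext (hv (by rw [SubmonoidClass.coe_pow, map_pow, OneMemClass.coe_one, map_one]; exact hk))⟩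
  obtain ⟨PZ, hPZ⟩ := hS0.exists_le_sylow
  have heq : (PZ : Subgroup ↥Z) ≤ S0 := by
    by_contra hne
    let S1 : Subgroup ↥(PZ : Subgroup ↥Z) := S0.subgroupOf PZ
    have hlt : S1 < ⊤ := lt_top_iff_ne_top.2 fun h => hne (Subgroup.subgroupOf_eq_top.1 h)
    haveI : Group.IsNilpotent ↥(PZ : Subgroup ↥Z) := PZ.isPGroup'.isNilpotent
    obtain ⟨u, hu, hnu⟩ := SetLike.exists_of_lt (Group.normalizerCondition_of_isNilpotent S1 hlt)
    obtain ⟨k, hk⟩ := PZ.isPGroup' u
    have huc : v u.1 * C.HT K c = C.HT K c * v u.1 :=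
      congrArg Subtype.val (Subgroup.mem_centralizer_singleton_iff.1 u.1.2)
    have hgk : v u.1 ^ 5 ^ k = 1 := by
      rw [← map_pow, ← SubmonoidClass.coe_pow, hk, OneMemClass.coe_one, map_one]
    refine hnu ⟨mem_torus hK hE hπ hEπ hEvec (u.1 : ↥G).2 hgk huc fun e he => ?_, k, hgk⟩
    have hmemT : C.HT K e ∈ torusFive :=
      ⟨C.HT_mem_diagonal e, 1, by rw [pow_one, HT_pow, he, C.HT_one]⟩
    let t : ↥Z := ⟨⟨C.HT K e, C.HT_mem_group e⟩, by
      rw [Subgroup.mem_centralizer_singleton_iff]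
      exact Subtype.ext (by show C.HT K e * C.HT K c = C.HT K c * C.HT K e; rw [C.HT_mul, C.HT_mul, mul_comm])⟩
    have ht : t ∈ S0 := hmemT
    exact ((Subgroup.mem_normalizer_iff.1 hu ⟨t, hPZ ht⟩).1 ht).1
  let Y' : ↥Z := ⟨Y, Subgroup.mem_centralizer_singleton_iff.2 (Subtype.ext hYc)⟩
  obtain ⟨P1, hP1⟩ := (IsPGroup.of_card (G := Subgroup.zpowers Y') (p := 5) (n := 1) (by
    rw [Nat.card_zpowers, pow_one, ← Subgroup.orderOf_coe]; exact hY)).exists_le_sylow
  obtain ⟨z, hz⟩ := MulAction.exists_smul_eq ↥Z P1 PZ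
  refine ⟨v z, (z : ↥G).2, congrArg Subtype.val (Subgroup.mem_centralizer_singleton_iff.1 z.2), ?_⟩
  have h2 : z * Y' * z⁻¹ ∈ (PZ : Subgroup ↥Z) := by
    rw [← hz]
    exact ⟨Y', hP1 (Subgroup.mem_zpowers Y'), rfl⟩
  exact (heq h2).1

theorem no_order65_aux {x y : ↥(chevE7.group (ZMod 2))} (hx : orderOf x = 13) (hy : orderOf y = 5)
    (hxy : x * y = y * x) : False := by
  haveI : Fact (Nat.Prime 13) := ⟨by norm_num⟩
  haveI : Fact (Nat.Prime 5) := ⟨Nat.prime_five⟩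
  let X : ↥(chevE7.group K) := ⟨emb (x : GL chevE7.Idx (ZMod 2)), emb_mem x.2⟩
  have hXo : orderOf X = 13 := by
    rw [← Subgroup.orderOf_coe, ← hx, ← Subgroup.orderOf_coe x]
    exact orderOf_injective _ emb_injective _
  obtain ⟨h, hh, c, hcx'0⟩ := conj_thirteen hK hXo
  have hcx : h⁻¹ * emb (x : GL chevE7.Idx (ZMod 2)) * h = C.HT K c := hcx'0
  have hord : ∀ {r : ℕ} {h : GL chevE7.Idx K} {u : GL chevE7.Idx (ZMod 2)} {d : I7 → Kˣ},
      orderOf u = r → h⁻¹ * emb u * h = C.HT K d → orderOf d = r := by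
    intro r h u d hu hd
    rw [← orderOf_injective (C.HThom K) HT_inj d, show C.HThom K d = C.HT K d from rfl, ← hd,
      show h⁻¹ * emb u * h = MulAut.conj h⁻¹ (emb u) by simp, MulEquiv.orderOf_eq,
      orderOf_injective _ emb_injective, hu]
  have hfix : ∀ {h : GL chevE7.Idx K} {u : GL chevE7.Idx (ZMod 2)} {d : I7 → Kˣ},
      h⁻¹ * emb u * h = C.HT K d → frobG (h * C.HT K d * h⁻¹) = h * C.HT K d * h⁻¹ := by
    intro h u d hd
    rw [show h * C.HT K d * h⁻¹ = emb u by rw [← hd]; group, frobG_emb]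
  obtain ⟨E, hE, hEvec⟩ := exists_vec (r := 13) (by rw [card_units hK]; norm_num)
    (hord (by rw [Subgroup.orderOf_coe, hx]) hcx)
  obtain ⟨π0, hπ0, hrel0⟩ := weyl_of hh (c := fun _ : Unit => c) fun _ => hfix hcx
  have hE0 : act E π0 = (2 : ZMod 13) • E := hEvec π0 2 hπ0 (hrel0 ())
  let Y : ↥(chevE7.group K) :=
    ⟨h⁻¹ * emb (y : GL chevE7.Idx (ZMod 2)) * h, mul_mem (mul_mem (inv_mem hh) (emb_mem y.2)) hh⟩
  have hYo : orderOf Y = 5 := by
    rw [← Subgroup.orderOf_coe,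
      show (Y : GL chevE7.Idx K) = MulAut.conj h⁻¹ (emb (y : GL chevE7.Idx (ZMod 2))) by simp [Y],
      MulEquiv.orderOf_eq, orderOf_injective _ emb_injective, Subgroup.orderOf_coe, hy]
  have hYc : (Y : GL chevE7.Idx K) * C.HT K c = C.HT K c * (Y : GL chevE7.Idx K) := by
    show h⁻¹ * emb (y : GL chevE7.Idx (ZMod 2)) * h * C.HT K c = C.HT K c * (h⁻¹ * emb (y : GL chevE7.Idx (ZMod 2)) * h)
    have h1 : emb (K := K) (y : GL chevE7.Idx (ZMod 2)) * emb (x : GL chevE7.Idx (ZMod 2)) =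
        emb (x : GL chevE7.Idx (ZMod 2)) * emb (y : GL chevE7.Idx (ZMod 2)) := by
      rw [← map_mul, ← map_mul]
      rw [← Subgroup.coe_mul, ← Subgroup.coe_mul, hxy]
    rw [← hcx]
    calc h⁻¹ * emb (y : GL chevE7.Idx (ZMod 2)) * h * (h⁻¹ * emb (x : GL chevE7.Idx (ZMod 2)) * h)
        = h⁻¹ * (emb (y : GL chevE7.Idx (ZMod 2)) * emb (x : GL chevE7.Idx (ZMod 2))) * h := by group
      _ = _ := by rw [h1]; group
  obtain ⟨z, hz, hzc, hzT⟩ := conj_five_torus hK hE hπ0 hE0 hEvec hYo hYc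
  obtain ⟨d, hd⟩ := C.mem_diagonal_iff.1 hzT
  have hcy : (h * z⁻¹)⁻¹ * emb (y : GL chevE7.Idx (ZMod 2)) * (h * z⁻¹) = C.HT K d := by
    rw [← hd]
    show _ = z * (h⁻¹ * emb (y : GL chevE7.Idx (ZMod 2)) * h) * z⁻¹
    group
  have hcx' : (h * z⁻¹)⁻¹ * emb (x : GL chevE7.Idx (ZMod 2)) * (h * z⁻¹) = C.HT K c := by
    calc (h * z⁻¹)⁻¹ * emb (x : GL chevE7.Idx (ZMod 2)) * (h * z⁻¹)
        = z * (h⁻¹ * emb (x : GL chevE7.Idx (ZMod 2)) * h) * z⁻¹ := by group
      _ = C.HT K c := by rw [hcx, hzc, mul_inv_cancel_right]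
  obtain ⟨π, hπ, hrel⟩ := weyl_of (mul_mem hh (inv_mem hz)) (c := fun b : Bool => cond b c d)
    (fun b => by cases b <;> first | exact hfix hcy | exact hfix hcx')
  obtain ⟨E', hE', hEvec'⟩ := exists_vec (r := 5) (by rw [card_units hK]; norm_num)
    (hord (by rw [Subgroup.orderOf_coe, hy]) hcy)
  exact no_pair hπ hE (hEvec π 2 hπ (hrel true)) hE' (hEvec' π 2 hπ (hrel false))

end Card

/-- E₇(2) has no element of order 65. -/
theorem no_order65 (g : ↥(chevE7.group (ZMod 2))) : orderOf g ≠ 65 := by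
  letI : Fintype (GaloisField 2 12) := Fintype.ofFinite _
  intro hg
  refine no_order65_aux (K := GaloisField 2 12) ?_ (x := g ^ 5) (y := g ^ 13) ?_ ?_ ?_
  · rw [← Nat.card_eq_fintype_card, GaloisField.card 2 12 (by norm_num)]
    norm_num
  · rw [orderOf_pow' _ (by norm_num), hg]; norm_num
  · rw [orderOf_pow' _ (by norm_num), hg]; norm_num
  · rw [← pow_add, ← pow_add, add_comm]

end Cfsg.Agent.Lib.E7Sixtyfive46
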