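import Cfsg.Agent.Lib.E7Sixtyfive46.Lattice
import Cfsg.Agent.Lib.E7Sixtyfive46.CycRoot
import Cfsg.Agent.Lib.ChevStructure.SylowHom.WeylCard
import Mathlib.LinearAlgebra.Eigenspace.Zero
import Mathlib.LinearAlgebra.Charpoly.ToMatrix
import Mathlib.LinearAlgebra.Matrix.ToLinearEquiv
import Mathlib.RingTheory.Polynomial.Cyclotomic.Roots
import Mathlib.GroupTheory.Sylow

/-!
The Weyl group of type E₇ has no element with eigenvalue 2 both modulo 13 and modulo 5, and none with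
eigenvalue 2 modulo 13 on a vector fixed by an element of order 5.
-/

set_option autoImplicit false
set_option maxRecDepth 100000
set_option linter.unusedSectionVars false

namespace Cfsg.Agent.Lib.E7Sixtyfive46

open Cfsg.Lie Cfsg.Agent.Lib.ChevStructure Cfsg.Agent.Lib.ChevStructure.RegTorus
open scoped Matrix

section Act

variable {R : Type*} [CommRing R]

/-- the matrix over a ring -/
def cm {m n : Type*} (A : Matrix m n ℤ) : Matrix m n R := A.map (Int.cast : ℤ → R)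

theorem cm_mul {l m n : Type*} [Fintype m] (A : Matrix l m ℤ) (B : Matrix m n ℤ) :
    (cm (A * B) : Matrix l n R) = (cm A : Matrix l m R) * (cm B : Matrix m n R) :=
  Matrix.map_mul (f := Int.castRingHom R)

theorem cm_one {n : Type*} [DecidableEq n] : (cm (1 : Matrix n n ℤ) : Matrix n n R) = 1 :=
  Matrix.map_one _ Int.cast_zero Int.cast_one

theorem cm_smul {m n : Type*} (k : ℤ) (A : Matrix m n ℤ) :
    (cm (k • A) : Matrix m n R) = (k : R) • (cm A : Matrix m n R) :=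
  Matrix.ext fun i j => by simp only [cm, Matrix.map_apply, Matrix.smul_apply, smul_eq_mul, Int.cast_mul]

theorem cm_add {m n : Type*} (A B : Matrix m n ℤ) :
    (cm (A + B) : Matrix m n R) = (cm A : Matrix m n R) + cm B :=
  Matrix.map_add _ Int.cast_add _ _

/-- the right action of the Weyl group on functionals -/
noncomputable def act (E : I7 → R) (σ : Equiv.Perm (Rt chevE7)) : I7 → R := E ᵥ* cm (mat C σ)

theorem act_one (E : I7 → R) : act E 1 = E := by rw [act, mat_one, cm_one, Matrix.vecMul_one]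

theorem act_mul (E : I7 → R) {σ : Equiv.Perm (Rt chevE7)} (hσ : σ ∈ C.WG) (τ : Equiv.Perm (Rt chevE7)) :
    act E (σ * τ) = act (act E σ) τ := by
  rw [act, act, act, mat_mul C hσ, cm_mul, Matrix.vecMul_vecMul]

theorem act_smul (x : R) (E : I7 → R) (σ : Equiv.Perm (Rt chevE7)) : act (x • E) σ = x • act E σ :=
  Matrix.smul_vecMul x E _

theorem act_act_inv (E : I7 → R) {σ : Equiv.Perm (Rt chevE7)} (hσ : σ ∈ C.WG) :
    act (act E σ) σ⁻¹ = E ∧ act (act E σ⁻¹) σ = E := by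
  refine ⟨?_, ?_⟩
  · rw [← act_mul E hσ, mul_inv_cancel, act_one]
  · rw [← act_mul E (inv_mem hσ), inv_mul_cancel, act_one]

/-- the stabiliser of a functional -/
def stabW (E : I7 → R) : Subgroup (Equiv.Perm (Rt chevE7)) where
  carrier := {σ | σ ∈ C.WG ∧ act E σ = E}
  one_mem' := ⟨one_mem _, act_one E⟩
  mul_mem' := fun {a b} ha hb => ⟨mul_mem ha.1 hb.1, by rw [act_mul E ha.1, ha.2, hb.2]⟩
  inv_mem' := fun {a} ha => ⟨inv_mem ha.1, by
    conv_lhs => rw [← ha.2]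
    exact (act_act_inv E ha.1).1⟩

theorem eigen_conj {E : I7 → R} {x : R} {π τ : Equiv.Perm (Rt chevE7)} (hπ : π ∈ C.WG) (hτ : τ ∈ C.WG)
    (h : act E π = x • E) : act (act E τ) (τ⁻¹ * π * τ) = x • act E τ := by
  rw [act_mul _ (mul_mem (inv_mem hτ) hπ), act_mul _ (inv_mem hτ), (act_act_inv E hτ).1, h, act_smul]

end Act

theorem card_WG : Nat.card C.WG = ([2, 6, 8, 10, 12, 14, 18] : List ℕ).prod :=
  (SylowHom.card_WG Cert.E7.certified Order.CertE7.levels).trans (by decide +kernel)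

/-- Subgroups of order five of a subgroup of the Weyl group are conjugate in it. -/
theorem conj_five {H : Subgroup (Equiv.Perm (Rt chevE7))} (hH : H ≤ C.WG) {a b : Equiv.Perm (Rt chevE7)}
    (ha : a ∈ H) (hb : b ∈ H) (hao : orderOf a = 5) (hbo : orderOf b = 5) :
    ∃ h ∈ H, h * a * h⁻¹ ∈ Subgroup.zpowers b := by
  haveI : Fact (Nat.Prime 5) := ⟨Nat.prime_five⟩
  have hdvd := Subgroup.card_dvd_of_le hH
  rw [card_WG] at hdvd
  have hone : ∀ x : ↥H, orderOf x = 5 → Nat.card (Subgroup.zpowers x) = 5 ^ (Nat.card ↥H).factorization 5 := by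
    intro x hx
    rw [Nat.card_zpowers, hx]
    obtain ⟨m, hm⟩ : 5 ∣ Nat.card ↥H := hx ▸ orderOf_dvd_natCard x
    have hne : Nat.card ↥H ≠ 0 := Nat.card_pos.ne'
    have hm5 : ¬ 5 ∣ m := by
      intro h5
      have : 25 ∣ ([2, 6, 8, 10, 12, 14, 18] : List ℕ).prod :=
        (Dvd.dvd.trans (mul_dvd_mul_left 5 h5) (dvd_of_eq hm.symm)).trans hdvd
      revert this
      decide
    rw [hm, Nat.factorization_mul (by norm_num) (fun h => hne (by rw [hm, h, mul_zero])), Finsupp.add_apply,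
      Nat.Prime.factorization_self Nat.prime_five, Nat.factorization_eq_zero_of_not_dvd hm5]
    rfl
  let A : ↥H := ⟨a, ha⟩
  let B : ↥H := ⟨b, hb⟩
  let PA : Sylow 5 ↥H := Sylow.ofCard (Subgroup.zpowers A) (hone A (by rw [← Subgroup.orderOf_coe]; exact hao))
  let PB : Sylow 5 ↥H := Sylow.ofCard (Subgroup.zpowers B) (hone B (by rw [← Subgroup.orderOf_coe]; exact hbo))
  obtain ⟨h, hh⟩ := MulAction.exists_smul_eq ↥H PA PB
  have h1 : h * A * h⁻¹ ∈ (PB : Subgroup ↥H) := by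
    rw [← hh]
    exact ⟨A, Subgroup.mem_zpowers A, rfl⟩
  obtain ⟨i, hi⟩ := h1
  exact ⟨h, h.2, i, congrArg Subtype.val hi⟩

/-- an element of order five -/
noncomputable def c5 : Equiv.Perm (Rt chevE7) := C.pprod [ix 0, ix 2, ix 3, ix 4]

/-- its matrix -/
def C5 : Matrix I7 I7 ℤ := (([ix 0, ix 2, ix 3, ix 4] : List I7).map (srefMat aE)).prod

theorem mat_c5 : mat C c5 = C5 := mat_pprod _

/-- the projection to the fixed space -/
def D5 : Matrix I7 I7 ℤ :=
  Matrix.diagonal fun i => ([1, 0, 1, 1, 1, 0, 0] : List ℤ).getD i.val 0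

/-- a witness -/
def N5 : Matrix I7 I7 ℤ :=
  Matrix.of fun i j => ([[-4, 0, 1, 1, 1, 0, 0], [], [-3, 0, -3, 2, 2, 0, 0], [-2, 0, -2, -2, 3, 0, 0],
    [-1, 0, -1, -1, -1, 0, 0], [], []].getD i.val []).getD j.val 0

/-- the rows of the coordinates outside the cycle -/
def B5 : Matrix (Fin 3) I7 ℤ :=
  Matrix.of fun a k => if k = ([ix 1, ix 5, ix 6] : List I7).getD a.val (ix 0) then 1 else 0

/-- the lifts -/
def L5 : Matrix I7 (Fin 3) ℤ := B5ᵀ

theorem C5_cert : C5 * N5 - N5 = (5 : ℤ) • D5 ∧ D5 + L5 * B5 = 1 ∧ B5 * C5 = B5 ∧ B5 * L5 = 1 := by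
  decide +kernel

theorem C5_order : C5 ^ 5 = 1 ∧ C5 ≠ 1 := by decide +kernel

theorem orderOf_c5 : orderOf c5 = 5 := by
  haveI : Fact (Nat.Prime 5) := ⟨Nat.prime_five⟩
  have hc : c5 ∈ C.WG := C.pprod_mem_WG _
  refine orderOf_eq_prime (eq_one_of_mat C (pow_mem hc 5) ?_) fun h => C5_order.2 ?_
  · rw [mat_pow C hc, mat_c5, C5_order.1]
  · rw [← mat_c5, h, mat_one]

/-- An integral matrix fixed by the element of order five factors through the fixed space. -/
theorem fixed_rows {k : Type*} {X : Matrix k I7 ℤ} (h : X * C5 = X) : X * L5 * B5 = X := by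
  have h1 : X * ((5 : ℤ) • D5) = 0 := by
    rw [← C5_cert.1, Matrix.mul_sub, ← Matrix.mul_assoc, h, sub_self]
  rw [Matrix.mul_smul] at h1
  have h2 : X * D5 = 0 := Matrix.ext fun i j => by
    have := congrFun (congrFun h1 i) j
    simp only [Matrix.smul_apply, Matrix.zero_apply, smul_eq_mul] at this
    simpa using this
  have h3 := congrArg (X * ·) C5_cert.2.1
  simp only [Matrix.mul_add, h2, zero_add, Matrix.mul_one] at h3
  rw [Matrix.mul_assoc, h3]

theorem mod13 : orderOf (2 : ZMod 13) = 12 ∧ (5 : ZMod 13) ≠ 0 ∧ (4 : ZMod 13) ≠ 0 ∧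
    (2 : ZMod 13) ≠ 1 ∧ (2 : ZMod 13) ≠ -1 := by
  refine ⟨?_, by decide, by decide, by decide, by decide⟩
  rw [orderOf_eq_iff (by norm_num)]
  exact ⟨by decide, by decide⟩

theorem mod5 : orderOf (2 : ZMod 5) = 4 := by
  rw [orderOf_eq_iff (by norm_num)]
  exact ⟨by decide, by decide⟩

theorem totient_vals : Nat.totient 12 = 4 ∧ Nat.totient 4 = 2 := by decide

/-- No element has eigenvalue 2 modulo 13 on a vector fixed by an element of order five. -/
theorem no_five {π σ : Equiv.Perm (Rt chevE7)} (hπ : π ∈ C.WG) (hσ : σ ∈ C.WG) (hσo : orderOf σ = 5)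
    {E : I7 → ZMod 13} (hE : E ≠ 0) (hEπ : act E π = (2 : ZMod 13) • E) (hEσ : act E σ = E) : False := by
  haveI : Fact (Nat.Prime 13) := ⟨by norm_num⟩
  have hc : c5 ∈ C.WG := C.pprod_mem_WG _
  obtain ⟨τ, hτ, hτc⟩ := conj_five le_rfl hc hσ orderOf_c5 hσo
  set E1 := act E τ with hE1
  set π0 := τ⁻¹ * π * τ with hπ0
  have hπ0W : π0 ∈ C.WG := mul_mem (mul_mem (inv_mem hτ) hπ) hτ
  have hE1π : act E1 π0 = (2 : ZMod 13) • E1 := eigen_conj hπ hτ hEπ
  have hE1c : act E1 c5 = E1 := by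
    obtain ⟨i, hi⟩ := hτc
    have h1 : τ * c5 = σ ^ i * τ := by
      rw [show σ ^ i = τ * c5 * τ⁻¹ from hi]; group
    have h2 : σ ^ i ∈ stabW E := zpow_mem (show σ ∈ stabW E from ⟨hσ, hEσ⟩) i
    rw [hE1, ← act_mul E hτ, h1, act_mul E h2.1, h2.2]
  have hE10 : E1 ≠ 0 := fun h => hE (by
    rw [← (act_act_inv E hτ).1, ← hE1, h, act, Matrix.zero_vecMul])
  have ha : π0 * c5 * π0⁻¹ ∈ stabW E1 := ⟨mul_mem (mul_mem hπ0W hc) (inv_mem hπ0W), by
    rw [act_mul _ (mul_mem hπ0W hc), act_mul _ hπ0W, hE1π, act_smul, hE1c, ← hE1π,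
      (act_act_inv E1 hπ0W).1]⟩
  have hao : orderOf (π0 * c5 * π0⁻¹) = 5 := by
    rw [← MulAut.conj_apply, MulEquiv.orderOf_eq, orderOf_c5]
  obtain ⟨h, hh, hj⟩ := conj_five (H := stabW E1) (fun x hx => hx.1) ha ⟨hc, hE1c⟩ hao orderOf_c5
  set π1 := h * π0 with hπ1
  have hπ1W : π1 ∈ C.WG := mul_mem hh.1 hπ0W
  have hE1π1 : act E1 π1 = (2 : ZMod 13) • E1 := by rw [hπ1, act_mul _ hh.1, hh.2, hE1π]
  obtain ⟨j, hj⟩ : ∃ j : ℕ, π1 * c5 = c5 ^ j * π1 := by
    rw [← mem_powers_iff_mem_zpowers, Submonoid.mem_powers_iff] at hj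
    obtain ⟨j, hj⟩ := hj
    exact ⟨j, by rw [hj, hπ1]; group⟩
  set P := mat C π1 with hP
  have hPC : P * C5 = C5 ^ j * P := by
    rw [hP, ← mat_c5, ← mat_pow C hc, ← mat_mul C hπ1W, ← mat_mul C (pow_mem hc j), hj]
  have hBj : ∀ i : ℕ, B5 * C5 ^ i = B5 := fun i => by
    induction i with
    | zero => rw [pow_zero, Matrix.mul_one]
    | succ i ih => rw [pow_succ, ← Matrix.mul_assoc, ih, C5_cert.2.2.1]
  have hBP : B5 * P * L5 * B5 = B5 * P := fixed_rows (by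
    rw [Matrix.mul_assoc, hPC, ← Matrix.mul_assoc, hBj])
  set Q := B5 * P * L5 with hQ
  have hQn : ∀ n : ℕ, Q ^ n * B5 = B5 * P ^ n := fun n => by
    induction n with
    | zero => rw [pow_zero, pow_zero, Matrix.one_mul, Matrix.mul_one]
    | succ n ih =>
      rw [pow_succ, Matrix.mul_assoc, hBP, ← Matrix.mul_assoc, ih, Matrix.mul_assoc, ← pow_succ]
  obtain ⟨e, he, hPe⟩ := exists_pow_eq_one C hπ1W
  have hQe : Q ^ e = 1 := by
    have h1 := congrArg (· * L5) (hQn e)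
    simp only [Matrix.mul_assoc] at h1
    rwa [hP, hPe, Matrix.one_mul, C5_cert.2.2.2, Matrix.mul_one] at h1
  have hD : E1 ᵥ* cm D5 = 0 := by
    have h1 : E1 ᵥ* cm ((5 : ℤ) • D5) = 0 := by
      rw [← C5_cert.1]
      have h2 : E1 ᵥ* cm (C5 * N5) = E1 ᵥ* cm N5 := by
        rw [cm_mul, ← Matrix.vecMul_vecMul]
        congr 1
        rw [← mat_c5]; exact hE1c
      rw [show (cm (C5 * N5 - N5) : Matrix I7 I7 (ZMod 13)) = cm (C5 * N5) - cm N5 from
        Matrix.map_sub _ Int.cast_sub _ _, Matrix.vecMul_sub, h2, sub_self]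
    rw [show (cm ((5 : ℤ) • D5) : Matrix I7 I7 (ZMod 13)) = (5 : ZMod 13) • cm D5 from
      Matrix.ext fun i j => by
        simp only [cm, Matrix.map_apply, Matrix.smul_apply, smul_eq_mul, Int.cast_mul, Int.cast_ofNat],
      Matrix.vecMul_smul] at h1
    exact (smul_eq_zero.1 h1).resolve_left mod13.2.1
  have hEB : E1 ᵥ* cm L5 ᵥ* cm B5 = E1 := by
    have h1 : E1 ᵥ* cm (D5 + L5 * B5) = E1 := by rw [C5_cert.2.1, cm_one, Matrix.vecMul_one]
    rwa [show (cm (D5 + L5 * B5) : Matrix I7 I7 (ZMod 13)) = cm D5 + cm (L5 * B5) from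
      Matrix.map_add _ Int.cast_add _ _, Matrix.vecMul_add, hD, zero_add, cm_mul, ← Matrix.vecMul_vecMul] at h1
  set y := E1 ᵥ* cm L5 with hy
  have hy0 : y ≠ 0 := fun h0 => hE10 (by rw [← hEB, h0, Matrix.zero_vecMul])
  have hyQ : y ᵥ* Q.map (Int.cast : ℤ → ZMod 13) = (2 : ZMod 13) • y := by
    show y ᵥ* cm Q = _
    rw [hQ, cm_mul, cm_mul, ← Matrix.vecMul_vecMul, ← Matrix.vecMul_vecMul, hEB,
      show E1 ᵥ* cm P = (2 : ZMod 13) • E1 from hE1π1, Matrix.smul_vecMul]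
  have h12 := cyclotomic_dvd Q he hQe hy0 hyQ mod13.1 (by norm_num)
    (by rw [Fintype.card_fin, totient_vals.1]; norm_num)
  have hdeg := Polynomial.natDegree_le_of_dvd h12 (Matrix.charpoly_monic Q).ne_zero
  rw [Polynomial.natDegree_cyclotomic, Matrix.charpoly_natDegree_eq_dim, Fintype.card_fin, totient_vals.1] at hdeg
  omega

section Pair

open Polynomial

theorem prod_cyclotomic_Q : cyclotomic 12 ℚ * cyclotomic 4 ℚ = X ^ 6 + 1 := by
  have hd : Nat.divisors 12 = {1, 2, 3, 4, 6, 12} := by decide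
  have h := prod_cyclotomic_eq_X_pow_sub_one (show 0 < 12 by norm_num) ℚ
  rw [hd] at h
  have hd6 : Nat.divisors 6 = {1, 2, 3, 6} := by decide
  have h6 := prod_cyclotomic_eq_X_pow_sub_one (show 0 < 6 by norm_num) ℚ
  rw [hd6] at h6
  simp only [Finset.mem_insert, Finset.mem_singleton, not_or, Finset.prod_insert, Finset.prod_singleton,
    not_false_eq_true, and_self, OfNat.one_ne_ofNat, Nat.reduceEqDiff] at h h6
  have hne : (X : ℚ[X]) ^ 6 - 1 ≠ 0 := X_pow_sub_C_ne_zero (R := ℚ) (by norm_num) 1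
  refine mul_left_cancel₀ hne ?_
  calc ((X : ℚ[X]) ^ 6 - 1) * (cyclotomic 12 ℚ * cyclotomic 4 ℚ)
      = X ^ 12 - 1 := by rw [← h6, ← h]; ring
    _ = _ := by ring

/-- The characteristic polynomial of an element with eigenvalue 2 modulo 5 and 13. -/
theorem charpoly_eq {P : Matrix I7 I7 ℤ} {e : ℕ} (he : 0 < e) (hP : P ^ e = 1) {E : I7 → ZMod 13} (hE : E ≠ 0)
    (hEP : E ᵥ* cm P = (2 : ZMod 13) • E) {E' : I7 → ZMod 5} (hE' : E' ≠ 0)
    (hEP' : E' ᵥ* cm P = (2 : ZMod 5) • E') :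
    ∃ R : ℤ, P.charpoly = (X ^ 6 + 1) * (X + Polynomial.C R) := by
  haveI : Fact (Nat.Prime 13) := ⟨by norm_num⟩
  haveI : Fact (Nat.Prime 5) := ⟨Nat.prime_five⟩
  have h12 := cyclotomic_dvd P he hP hE hEP mod13.1 (by norm_num)
    (by rw [Fintype.card_fin, totient_vals.1]; decide)
  have h4 := cyclotomic_dvd P he hP hE' hEP' mod5 (by norm_num)
    (by rw [Fintype.card_fin, totient_vals.2]; decide)
  have hmon : (X ^ 6 + 1 : ℤ[X]).Monic := monic_X_pow_add_C (1 : ℤ) (by norm_num)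
  have h12' := Polynomial.map_dvd (Int.castRingHom ℚ) h12
  have h4' := Polynomial.map_dvd (Int.castRingHom ℚ) h4
  rw [map_cyclotomic] at h12' h4'
  have hmul := (cyclotomic.isCoprime_rat (show 12 ≠ 4 by norm_num)).mul_dvd h12' h4'
  rw [prod_cyclotomic_Q, show (X ^ 6 + 1 : ℚ[X]) = (X ^ 6 + 1 : ℤ[X]).map (Int.castRingHom ℚ) by simp] at hmul
  obtain ⟨R, hR⟩ := (Polynomial.map_dvd_map _ Int.cast_injective hmon).1 hmul
  have hRm : R.Monic := hmon.of_mul_monic_left (hR ▸ Matrix.charpoly_monic P)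
  have hdeg := congrArg natDegree hR
  rw [Matrix.charpoly_natDegree_eq_dim, Fintype.card_fin, hmon.natDegree_mul hRm,
    show (X ^ 6 + 1 : ℤ[X]) = X ^ 6 + Polynomial.C 1 by simp, natDegree_X_pow_add_C] at hdeg
  refine ⟨R.coeff 0, ?_⟩
  rw [hR, hRm.eq_X_add_C (by change 7 = 6 + R.natDegree at hdeg; omega)]
  simp

/-- A simple integral eigenvalue ±1, with a primitive eigenvector. -/
theorem exists_axis {P : Matrix I7 I7 ℤ} {e : ℕ} (he : 0 < e) (hP : P ^ e = 1) {R : ℤ}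
    (h : P.charpoly = (X ^ 6 + 1) * (X + Polynomial.C R)) :
    ∃ (lam : ℤ) (a : I7 → ℤ), (lam = 1 ∨ lam = -1) ∧ Finset.univ.gcd a = 1 ∧ P *ᵥ a = lam • a ∧
      ∀ u, P *ᵥ u = lam • u → ∀ k, a k • u = u k • a := by
  have hdet : (Matrix.scalar I7 (-R) - P).det = 0 := by
    rw [← Matrix.eval_charpoly, h]
    simp
  obtain ⟨v, hv0, hv⟩ := Matrix.exists_mulVec_eq_zero_iff.2 hdet
  rw [Matrix.sub_mulVec, sub_eq_zero] at hv
  have hv' : P *ᵥ v = (-R) • v := by
    rw [← hv]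
    rw [Matrix.scalar_apply]
    funext i
    simp [Matrix.mulVec_diagonal]
  set lam := -R with hlam
  have hpow : ∀ k : ℕ, (P ^ k) *ᵥ v = lam ^ k • v := fun k => by
    induction k with
    | zero => simp
    | succ k ih => rw [pow_succ, ← Matrix.mulVec_mulVec, hv', Matrix.mulVec_smul, ih, smul_smul, pow_succ']
  have hl : lam ^ e = 1 := by
    have h1 := hpow e
    rw [hP, Matrix.one_mulVec] at h1
    obtain ⟨i, hi⟩ := Function.ne_iff.1 hv0
    exact (mul_eq_right₀ hi).1 (congrFun h1 i).symm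
  have hl1 : lam = 1 ∨ lam = -1 := Int.isUnit_iff.1 (IsUnit.of_pow_eq_one hl he.ne')
  obtain ⟨a, ha, hgcd⟩ := Finset.extract_gcd (s := (Finset.univ : Finset I7)) v ⟨ix 0, Finset.mem_univ _⟩
  have hg0 : Finset.univ.gcd v ≠ 0 := fun h0 => hv0 (funext fun i =>
    Finset.gcd_eq_zero_iff.1 h0 i (Finset.mem_univ i))
  have hva : v = Finset.univ.gcd v • a := funext fun i => ha i (Finset.mem_univ i)
  have hPa : P *ᵥ a = lam • a := by
    refine smul_right_injective _ hg0 ?_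
    show Finset.univ.gcd v • (P *ᵥ a) = Finset.univ.gcd v • (lam • a)
    rw [← Matrix.mulVec_smul, smul_comm, ← hva, hv']
  refine ⟨lam, a, hl1, hgcd, hPa, fun u hu k => ?_⟩
  let φ : Module.End ℚ (I7 → ℚ) := Matrix.toLin' (toQ P)
  have hcast : ∀ w : I7 → ℤ, P *ᵥ w = lam • w →
      (fun i => (w i : ℚ)) ∈ φ.eigenspace (lam : ℚ) := by
    intro w hw
    rw [Module.End.mem_eigenspace_iff]
    funext i
    show ((toQ P) *ᵥ fun i => (w i : ℚ)) i = _
    have h1 := congrFun hw i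
    have h2 : ((toQ P) *ᵥ fun i => (w i : ℚ)) i = ((P *ᵥ w) i : ℚ) :=
      ((Int.castRingHom ℚ).map_mulVec P w i).symm
    rw [h2, h1]
    simp
  have hmult : φ.charpoly.rootMultiplicity (lam : ℚ) = 1 := by
    have hcp : φ.charpoly = (X ^ 6 + 1) * (X - Polynomial.C (lam : ℚ)) := by
      show (Matrix.toLin' (toQ P)).charpoly = _
      rw [Matrix.charpoly_toLin',
        show toQ P = P.map (Int.castRingHom ℚ) from rfl, Matrix.charpoly_map, h]
      simp [hlam]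
    have hne : (X ^ 6 + 1 : ℚ[X]).eval (lam : ℚ) ≠ 0 := by
      rcases hl1 with h1 | h1 <;> rw [h1] <;> norm_num
    rw [hcp, rootMultiplicity_mul (mul_ne_zero (fun h0 => hne (by rw [h0, eval_zero])) (X_sub_C_ne_zero _)),
      rootMultiplicity_eq_zero hne, rootMultiplicity_X_sub_C_self]
  have hle : Module.finrank ℚ (φ.eigenspace (lam : ℚ)) ≤ 1 := hmult ▸ LinearMap.finrank_eigenspace_le φ _
  have ha0 : a ≠ 0 := fun h0 => hv0 (by rw [hva, h0, smul_zero])
  let A : φ.eigenspace (lam : ℚ) := ⟨_, hcast a hPa⟩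
  have hA : A ≠ 0 := fun h0 => ha0 (funext fun i =>
    Int.cast_injective (α := ℚ) ((congrFun (congrArg Subtype.val h0) i).trans Int.cast_zero.symm))
  have hfr : Module.finrank ℚ (φ.eigenspace (lam : ℚ)) = 1 :=
    le_antisymm hle (Module.finrank_pos_iff_exists_ne_zero.2 ⟨A, hA⟩)
  obtain ⟨c, hc⟩ := (finrank_eq_one_iff_of_nonzero' A hA).1 hfr ⟨_, hcast u hu⟩
  have hc' : ∀ i, c * (a i : ℚ) = (u i : ℚ) := fun i => congrFun (congrArg Subtype.val hc) i
  funext i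
  refine Int.cast_injective (α := ℚ) ?_
  simp only [Pi.smul_apply, smul_eq_mul, Int.cast_mul, ← hc']
  ring

theorem ix_val (k : ℕ) (h : k < chevE7.rank) : (ix k h).val = k := rfl

/-- twice the inverse of the Cartan matrix -/
def Gi : Matrix I7 I7 ℤ :=
  Matrix.of fun i j => ([[4, 4, 6, 8, 6, 4, 2], [4, 7, 8, 12, 9, 6, 3], [6, 8, 12, 16, 12, 8, 4],
    [8, 12, 16, 24, 18, 12, 6], [6, 9, 12, 18, 15, 10, 5], [4, 6, 8, 12, 10, 8, 4],
    [2, 3, 4, 6, 5, 4, 3]].getD i.val []).getD j.val 0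

theorem Gi_G : Gi * G = (2 : ℤ) • 1 := by decide +kernel

set_option synthInstance.maxSize 2048 in
theorem two_norm {a : I7 → ℤ} (hgcd : Finset.univ.gcd a = 1)
    (h : ∀ w, bil G a a ∣ 2 * bil G w a) : bil G a a = 2 := by
  have hne : a ≠ 0 := fun h0 => by
    subst h0
    have := (Finset.gcd_eq_zero_iff (s := (Finset.univ : Finset I7)) (f := (0 : I7 → ℤ))).2 fun _ _ => rfl
    rw [this] at hgcd
    exact zero_ne_one hgcd
  obtain ⟨c, hc⟩ : (2 : ℤ) ∣ bil G a a := Dvd.intro _ (bil_self a).symm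
  have hpos : 0 < bil G a a := lt_of_le_of_ne (bil_self_nonneg a).1 fun h0 => hne ((bil_self_nonneg a).2 h0.symm)
  have hj : ∀ j, c ∣ (G *ᵥ a) j := fun j => by
    have h1 := h (Pi.single j 1)
    rw [bil_single, hc] at h1
    exact Int.dvd_of_mul_dvd_mul_left (by norm_num) h1
  have hk : ∀ k, c ∣ 2 * a k := fun k => by
    have h1 : (2 : ℤ) * a k = ((Gi * G) *ᵥ a) k := by simp [Gi_G, Matrix.smul_mulVec]
    rw [h1, ← Matrix.mulVec_mulVec]
    show c ∣ ∑ j, Gi k j * (G *ᵥ a) j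
    exact Finset.dvd_sum fun j _ => Dvd.dvd.mul_left (hj j) _
  have hc2 : c ∣ 2 := by
    have h1 : c ∣ Finset.univ.gcd fun k => 2 * a k := Finset.dvd_gcd fun k _ => hk k
    rw [Finset.gcd_mul_left, hgcd, mul_one] at h1
    simpa using h1
  have hcle := Int.le_of_dvd (by norm_num) hc2
  rcases (show c = 1 ∨ c = 2 by omega) with h1 | h1
  · rw [hc, h1, mul_one]
  exfalso
  have hz : ∀ j, (((G *ᵥ a) j : ℤ) : ZMod 2) = 0 := fun j =>
    (ZMod.intCast_zmod_eq_zero_iff_dvd _ 2).2 (by have := hj j; rw [h1] at this; exact this)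
  have h0 := hz (ix 0)
  have e1 := hz (ix 1)
  have e2 := hz (ix 2)
  have e3 := hz (ix 3)
  have e4 := hz (ix 4)
  have e5 := hz (ix 5)
  have e6 := hz (ix 6)
  simp [Matrix.mulVec, dotProduct, sum7, G, Gf, ix_val] at h0 e1 e2 e3 e4 e5 e6
  have hsum : a (ix 0) ^ 2 + a (ix 1) ^ 2 + a (ix 2) ^ 2 + a (ix 3) ^ 2 +
      a (ix 4) ^ 2 + a (ix 5) ^ 2 + a (ix 6) ^ 2 - a (ix 0) * a (ix 2) - a (ix 2) * a (ix 3) -
      a (ix 1) * a (ix 3) - a (ix 3) * a (ix 4) - a (ix 4) * a (ix 5) - a (ix 5) * a (ix 6) = 2 :=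
    mul_left_cancel₀ (two_ne_zero (α := ℤ)) ((bil_self a).symm.trans (by rw [hc, h1]))
  have hcast := congrArg (Int.cast : ℤ → ZMod 2) hsum
  push_cast at hcast
  have hall : ¬ ((a (ix 0) : ZMod 2) = 0 ∧ (a (ix 1) : ZMod 2) = 0 ∧ (a (ix 2) : ZMod 2) = 0 ∧
      (a (ix 3) : ZMod 2) = 0 ∧ (a (ix 4) : ZMod 2) = 0 ∧ (a (ix 5) : ZMod 2) = 0 ∧ (a (ix 6) : ZMod 2) = 0) := by
    intro hh
    have h2 : (2 : ℤ) ∣ Finset.univ.gcd a := Finset.dvd_gcd fun k _ => by
      refine (ZMod.intCast_zmod_eq_zero_iff_dvd _ 2).1 ?_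
      obtain ⟨b0, b1, b2, b3, b4, b5, b6⟩ := hh
      rcases cases7 k with rfl | rfl | rfl | rfl | rfl | rfl | rfl <;> assumption
    rw [hgcd] at h2
    omega
  revert h0 e1 e2 e3 e4 e5 e6 hcast hall
  generalize (a (ix 0) : ZMod 2) = x0, (a (ix 1) : ZMod 2) = x1, (a (ix 2) : ZMod 2) = x2,
    (a (ix 3) : ZMod 2) = x3, (a (ix 4) : ZMod 2) = x4, (a (ix 5) : ZMod 2) = x5, (a (ix 6) : ZMod 2) = x6
  revert x0 x1 x2 x3 x4 x5 x6
  decide

/-- the reflection in the highest root -/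
noncomputable def sθ : Equiv.Perm (Rt chevE7) :=
  C.pprod (words.getD 0 []) * C.sref (ix 0) * (C.pprod (words.getD 0 []))⁻¹

theorem sθ_mem : sθ ∈ C.WG :=
  mul_mem (mul_mem (C.pprod_mem_WG _) (Subgroup.subset_closure ⟨_, rfl⟩)) (inv_mem (C.pprod_mem_WG _))

theorem mat_sθ (x : I7 → ℤ) : mat C sθ *ᵥ x = x - bil G θv x • θv := by
  set u := C.pprod (words.getD 0 [])
  have hu : u ∈ C.WG := C.pprod_mem_WG _
  have hs : C.sref (ix 0) ∈ C.WG := Subgroup.subset_closure ⟨_, rfl⟩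
  have hθ : mat C u *ᵥ Pi.single (ix 0) 1 = θv := by rw [mat_pprod]; exact words_spec (ix 0)
  have hinv : mat C u *ᵥ (mat C u⁻¹ *ᵥ x) = x := by
    rw [Matrix.mulVec_mulVec, ← mat_mul C hu, mul_inv_cancel, mat_one, Matrix.one_mulVec]
  rw [sθ, mat_mul C (mul_mem hu hs), mat_mul C hu, ← Matrix.mulVec_mulVec, ← Matrix.mulVec_mulVec, sref_mulVec,
    Matrix.mulVec_sub, Matrix.mulVec_smul, hθ, hinv, ← bil_single]
  congr 2
  conv_rhs => rw [← hθ, ← hinv]
  exact (bil_mat hu _ _).symm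

/-- No element has eigenvalue 2 both modulo 13 and modulo 5. -/
theorem no_pair {π : Equiv.Perm (Rt chevE7)} (hπ : π ∈ C.WG) {E : I7 → ZMod 13} (hE : E ≠ 0)
    (hEπ : act E π = (2 : ZMod 13) • E) {E' : I7 → ZMod 5} (hE' : E' ≠ 0)
    (hEπ' : act E' π = (2 : ZMod 5) • E') : False := by
  haveI : Fact (Nat.Prime 13) := ⟨by norm_num⟩
  obtain ⟨e, he, hPe⟩ := exists_pow_eq_one C hπ
  set P := mat C π with hP
  obtain ⟨R, hR⟩ := charpoly_eq he hPe hE hEπ hE' hEπ'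
  obtain ⟨lam, a, hlam, hgcd, hPa, hline⟩ := exists_axis he hPe hR
  have hlam2 : lam ^ 6 = 1 := by rcases hlam with h | h <;> subst h <;> norm_num
  have hR' : R = -lam := by
    have h1 : ((Matrix.scalar I7 lam - P).det) = 0 := by
      refine Matrix.exists_mulVec_eq_zero_iff.1 ⟨a, fun h0 => ?_, ?_⟩
      · subst h0
        have := (Finset.gcd_eq_zero_iff (s := (Finset.univ : Finset I7)) (f := (0 : I7 → ℤ))).2 fun _ _ => rfl
        rw [this] at hgcd
        exact zero_ne_one hgcd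
      · rw [Matrix.sub_mulVec, hPa, sub_eq_zero]
        funext i
        simp [Matrix.scalar_apply, Matrix.mulVec_diagonal]
    rw [← Matrix.eval_charpoly, hR] at h1
    simp [hlam2] at h1
    omega
  have hdiv : ∀ w, bil G a a ∣ 2 * bil G w a := by
    intro w
    set u := ((P ^ 6 + 1 : Matrix I7 I7 ℤ)) *ᵥ w with hu
    have hPu : P *ᵥ u = lam • u := by
      have hCH := Matrix.aeval_self_charpoly P
      rw [hR, hR'] at hCH
      simp only [map_mul, map_add, map_pow, Polynomial.aeval_X, map_one, Polynomial.aeval_C, map_neg,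
        Algebra.algebraMap_eq_smul_one] at hCH
      have hcomm : (P ^ 6 + 1) * (P + -(lam • (1 : Matrix I7 I7 ℤ))) =
          P * (P ^ 6 + 1) - lam • (P ^ 6 + 1) := by
        rw [mul_add, mul_neg, Matrix.mul_smul, mul_one, mul_add, add_mul, ← pow_succ, ← pow_succ', one_mul,
          mul_one, sub_eq_add_neg]
      rw [hcomm, sub_eq_zero] at hCH
      rw [hu, Matrix.mulVec_mulVec, hCH, Matrix.smul_mulVec]
    have hP6 : (P ^ 6) *ᵥ a = a := by
      have : ∀ k : ℕ, (P ^ k) *ᵥ a = lam ^ k • a := fun k => by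
        induction k with
        | zero => simp
        | succ k ih => rw [pow_succ, ← Matrix.mulVec_mulVec, hPa, Matrix.mulVec_smul, ih, smul_smul, pow_succ']
      rw [this 6, hlam2, one_smul]
    have hb : bil G u a = 2 * bil G w a := by
      rw [hu, Matrix.add_mulVec, Matrix.one_mulVec, bil, add_dotProduct]
      show bil G ((P ^ 6) *ᵥ w) a + bil G w a = _
      conv_lhs => arg 1; rw [← hP6]
      rw [hP, ← mat_pow C hπ, bil_mat (pow_mem hπ 6), two_mul]
    have hk : ∀ k, bil G a a ∣ (2 * bil G w a) * a k := fun k => by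
      have h1 := congrArg (fun z => bil G z a) (hline u hPu k)
      simp only [bil, smul_dotProduct, smul_eq_mul] at h1
      exact ⟨u k, by rw [← hb, mul_comm, mul_comm (bil G a a)]; exact h1⟩
    have h2 : bil G a a ∣ Finset.univ.gcd fun k => (2 * bil G w a) * a k := Finset.dvd_gcd fun k _ => hk k
    rw [Finset.gcd_mul_left, hgcd, mul_one] at h2
    exact h2.trans (associated_normalize _).symm.dvd
  obtain ⟨τ, hτ, hτa⟩ := exists_to_theta (two_norm hgcd hdiv)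
  set π1 := τ * π * τ⁻¹ with hπ1
  have hπ1W : π1 ∈ C.WG := mul_mem (mul_mem hτ hπ) (inv_mem hτ)
  set E1 := act E τ⁻¹ with hE1def
  have hE1 : act E1 π1 = (2 : ZMod 13) • E1 := by
    have := eigen_conj (τ := τ⁻¹) hπ (inv_mem hτ) hEπ
    rwa [inv_inv] at this
  have hθ1 : mat C π1 *ᵥ θv = lam • θv := by
    have h1 : mat C π1 *ᵥ (mat C τ *ᵥ a) = lam • (mat C τ *ᵥ a) := by
      rw [Matrix.mulVec_mulVec, ← mat_mul C hπ1W, hπ1, inv_mul_cancel_right, mat_mul C hτ,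
        ← Matrix.mulVec_mulVec, ← hP, hPa, Matrix.mulVec_smul]
    rcases hτa with h | h <;> rw [h] at h1
    · exact h1
    · rw [Matrix.mulVec_neg, smul_neg, neg_inj] at h1
      exact h1
  have hEθ : E1 ⬝ᵥ (fun k => (θv k : ZMod 13)) = 0 := by
    have h1 : (cm (mat C π1) : Matrix I7 I7 (ZMod 13)) *ᵥ (fun k => (θv k : ZMod 13)) =
        (lam : ZMod 13) • fun k => (θv k : ZMod 13) := by
      funext i
      rw [show (cm (mat C π1) *ᵥ fun k => (θv k : ZMod 13)) i = ((mat C π1 *ᵥ θv) i : ZMod 13) from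
        ((Int.castRingHom (ZMod 13)).map_mulVec _ _ i).symm, hθ1]
      simp
    have h2 := Matrix.dotProduct_mulVec E1 (cm (mat C π1)) (fun k => (θv k : ZMod 13))
    rw [h1, show E1 ᵥ* cm (mat C π1) = (2 : ZMod 13) • E1 from hE1, dotProduct_smul, smul_dotProduct,
      smul_eq_mul, smul_eq_mul, ← sub_eq_zero, ← sub_mul] at h2
    refine (mul_eq_zero.1 h2).resolve_left (sub_ne_zero.2 ?_)
    rcases hlam with h | h <;> subst h <;> push_cast
    · exact mod13.2.2.2.1.symm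
    · exact mod13.2.2.2.2.symm
  have hsE : act E1 sθ = E1 := by
    funext k
    have h2 := Matrix.dotProduct_mulVec E1 (cm (mat C sθ)) (Pi.single k (1 : ZMod 13))
    rw [dotProduct_single_one] at h2
    show (E1 ᵥ* cm (mat C sθ)) k = E1 k
    rw [← h2]
    have h3 : (cm (mat C sθ) : Matrix I7 I7 (ZMod 13)) *ᵥ Pi.single k 1 =
        Pi.single k 1 - ((bil G θv (Pi.single k 1) : ℤ) : ZMod 13) • fun m => (θv m : ZMod 13) := by
      funext i
      have h4 := congrArg (Int.cast : ℤ → ZMod 13) (congrFun (mat_sθ (Pi.single k 1)) i)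
      simp only [Matrix.mulVec_single_one, Matrix.col_apply] at h4 ⊢
      show ((mat C sθ i k : ℤ) : ZMod 13) = _
      rw [h4]
      by_cases hik : i = k <;> simp [hik]
    rw [h3, dotProduct_sub, dotProduct_smul, hEθ, smul_zero, sub_zero, dotProduct_single_one]
  obtain ⟨w, hw, hwθ, hwE⟩ : ∃ w ∈ C.WG, mat C w *ᵥ θv = θv ∧ act E1 w = (2 : ZMod 13) • E1 := by
    rcases hlam with h | h <;> subst h
    · exact ⟨π1, hπ1W, by rw [hθ1, one_smul], hE1⟩
    · refine ⟨sθ * π1, mul_mem sθ_mem hπ1W, ?_, by rw [act_mul _ sθ_mem, hsE, hE1]⟩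
      rw [mat_mul C sθ_mem, ← Matrix.mulVec_mulVec, hθ1, mat_sθ]
      have h2 : bil G θv θv = 2 := by decide +kernel
      have h3 : bil G θv ((-1 : ℤ) • θv) = -2 := by
        simp only [bil, Matrix.mulVec_smul, dotProduct_smul] at h2 ⊢
        rw [h2]; norm_num
      rw [h3]
      funext i
      simp
      ring
  obtain ⟨σ, ε, hε, hM⟩ := good_of_stab hw hwθ
  set y := E1 ᵥ* cm R0 with hy
  have hyP : y ᵥ* cm P0 = (4 : ZMod 13) • E1 := by
    rw [hy, Matrix.vecMul_vecMul, ← cm_mul]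
    have h1 := congrArg (fun A : Matrix I7 I7 ℤ => E1 ᵥ* (cm A : Matrix I7 I7 (ZMod 13))) R0_P0
    have h2 : E1 ᵥ* (cm ((2 : ℤ) • Matrix.vecMulVec θv (G *ᵥ θv)) : Matrix I7 I7 (ZMod 13)) = 0 := by
      funext j
      show ∑ i, E1 i * (((2 : ℤ) * (θv i * (G *ᵥ θv) j) : ℤ) : ZMod 13) = 0
      push_cast
      rw [Finset.sum_congr rfl fun i _ => show E1 i * (2 * ((θv i : ZMod 13) * ((G *ᵥ θv) j : ZMod 13))) =
        E1 i * (θv i : ZMod 13) * (2 * ((G *ᵥ θv) j : ZMod 13)) by ring, ← Finset.sum_mul]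
      rw [show ∑ i, E1 i * (θv i : ZMod 13) = 0 from hEθ, zero_mul]
    have h3 : (cm ((4 : ℤ) • (1 : Matrix I7 I7 ℤ)) : Matrix I7 I7 (ZMod 13)) = (4 : ZMod 13) • 1 :=
      by rw [cm_smul, cm_one, Int.cast_ofNat]
    simp only [show ∀ A B : Matrix I7 I7 ℤ, (cm (A + B) : Matrix I7 I7 (ZMod 13)) = cm A + cm B from
      fun A B => Matrix.map_add _ Int.cast_add _ _, Matrix.vecMul_add, h2, add_zero, h3] at h1
    rw [h1, Matrix.vecMul_smul, Matrix.vecMul_one]
  have hyM : y ᵥ* cm (sgn σ ε) = (2 : ZMod 13) • y := by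
    have h1 : y ᵥ* cm (sgn σ ε) ᵥ* cm P0 = ((2 : ZMod 13) • y) ᵥ* cm P0 := by
      rw [Matrix.vecMul_vecMul, ← cm_mul, ← hM, cm_mul, ← Matrix.vecMul_vecMul, Matrix.smul_vecMul, hyP,
        Matrix.smul_vecMul, show E1 ᵥ* cm (mat C w) = (2 : ZMod 13) • E1 from hwE, smul_comm]
    have h2 := congrArg (· ᵥ* (cm R0 : Matrix I7 (Fin 6) (ZMod 13))) h1
    have h3 : (cm ((4 : ℤ) • (1 : Matrix (Fin 6) (Fin 6) ℤ)) : Matrix (Fin 6) (Fin 6) (ZMod 13)) =
        (4 : ZMod 13) • 1 := by rw [cm_smul, cm_one, Int.cast_ofNat]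
    simp only [Matrix.vecMul_vecMul _ (cm P0 : Matrix (Fin 6) I7 (ZMod 13)) (cm R0), ← cm_mul] at h2
    rw [P0_R0, h3, Matrix.vecMul_smul, Matrix.vecMul_smul, Matrix.vecMul_one, Matrix.vecMul_one] at h2
    exact smul_right_injective _ mod13.2.2.1 h2
  have hy0 := sgn_eigen hε hyM
  rw [hy0, Matrix.zero_vecMul, eq_comm] at hyP
  have hE10 : E1 = 0 := (smul_eq_zero.1 hyP).resolve_left mod13.2.2.1
  exact hE (by rw [← (act_act_inv E hτ).2, ← hE1def, hE10, act, Matrix.zero_vecMul])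

end Pair

end Cfsg.Agent.Lib.E7Sixtyfive46
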